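import Cfsg.Agent.DegreeThreeP.TwoTrans.Split

/-!
# Degree `3 p`, case `1 + χ`, `p ≡ 3` modulo four: three orbits of the two-point stabilizer

An element `u` swapping the points fixes one orbit `A` and exchanges the others, `B` and `B'`.  The
fixed point sets of the three-point stabilizers are too small for the character bound.
-/

set_option autoImplicit false
set_option linter.unusedSectionVars false
set_option linter.style.haveILetI false

namespace CfsgLib.DegreeThreeP

open MulAction

universe u v

variable {p c : ℕ} {G : Type u} [Group G] [Fintype G] {Ω : Type v} [Fintype Ω] [MulAction G Ω]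

/-- The element permutes `a` and `b`. -/
def Perms {G : Type u} [Group G] {Ω : Type v} [MulAction G Ω] (a b : Ω) (k : G) : Prop :=
  (k • a = a ∧ k • b = b) ∨ (k • a = b ∧ k • b = a)

theorem perms_of_mem {a b : Ω} {g : G} (hg : g ∈ pairStab G a b) : Perms a b g :=
  Or.inl (mem_pairStab.1 hg)

theorem tri_swap (a b x : Ω) : tri G b a x = tri G a b x := by
  rw [tri, tri, inf_comm (stabilizer G b)]

theorem tri_perms {a b : Ω} {k : G} (hk : Perms a b k) (x : Ω) :
    (tri G a b x).map (MulAut.conj k).toMonoidHom = tri G a b (k • x) := by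
  rw [tri_map]
  rcases hk with ⟨h1, h2⟩ | ⟨h1, h2⟩
  · rw [h1, h2]
  · rw [h1, h2, tri_swap]

theorem conj_mem_pairStab {a b : Ω} {k g : G} (hk : Perms a b k) (hg : g ∈ pairStab G a b) :
    k * g * k⁻¹ ∈ pairStab G a b := by
  obtain ⟨g1, g2⟩ := mem_pairStab.1 hg
  rw [mem_pairStab]
  rcases hk with ⟨h1, h2⟩ | ⟨h1, h2⟩ <;> constructor <;> rw [mul_smul, mul_smul]
  · rw [inv_smul_eq_iff.2 h1.symm, g1, h1]
  · rw [inv_smul_eq_iff.2 h2.symm, g2, h2]
  · rw [inv_smul_eq_iff.2 h2.symm, g2, h2]
  · rw [inv_smul_eq_iff.2 h1.symm, g1, h1]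

theorem perms_inv {a b : Ω} {k : G} (hk : Perms a b k) : Perms a b k⁻¹ := by
  rcases hk with ⟨h1, h2⟩ | ⟨h1, h2⟩
  · exact Or.inl ⟨inv_smul_eq_iff.2 h1.symm, inv_smul_eq_iff.2 h2.symm⟩
  · exact Or.inr ⟨inv_smul_eq_iff.2 h2.symm, inv_smul_eq_iff.2 h1.symm⟩

theorem orb_perms [DecidableEq Ω] {a b : Ω} {k : G} (hk : Perms a b k) (x : Ω) :
    orb (pairStab G a b) (k • x) = (orb (pairStab G a b) x).image (k • ·) := by
  ext y
  rw [Finset.mem_image]
  constructor
  · intro hy
    obtain ⟨g, hg, rfl⟩ := mem_orb.1 hy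
    refine ⟨(k⁻¹ * g * k) • x, mem_orb.2 ⟨_, ?_, rfl⟩, ?_⟩
    · have := conj_mem_pairStab (perms_inv hk) hg
      rwa [inv_inv] at this
    · simp [mul_smul]
  · rintro ⟨z, hz, rfl⟩
    obtain ⟨g, hg, rfl⟩ := mem_orb.1 hz
    exact mem_orb.2 ⟨k * g * k⁻¹, conj_mem_pairStab hk hg, by simp [mul_smul]⟩

theorem card_orb_perms [DecidableEq Ω] {a b : Ω} {k : G} (hk : Perms a b k) (x : Ω) :
    (orb (pairStab G a b) (k • x)).card = (orb (pairStab G a b) x).card := by
  rw [orb_perms hk]
  exact Finset.card_image_of_injective _ (MulAction.injective k)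

theorem fix_count_perms {a b : Ω} {k : G} (hk : Perms a b k) (x : Ω) :
    (fixS (tri G a b (k • x)) : Finset Ω).card = (fixS (tri G a b x) : Finset Ω).card := by
  rw [← tri_perms hk, card_fixS_map]

theorem tri_le_of_fix {a b x d : Ω} (hd : d ∈ (fixS (tri G a b x) : Finset Ω)) :
    tri G a b x ≤ tri G a b d :=
  le_inf (tri_le a b x) (mem_fixS_iff_le.1 hd)

theorem orb_le_of_fix {a b x d : Ω} (hd : d ∈ (fixS (tri G a b x) : Finset Ω)) :
    (orb (pairStab G a b) d).card ≤ (orb (pairStab G a b) x).card := by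
  have h1 := card_orb_tri (G := G) a b x
  have h2 := card_orb_tri (G := G) a b d
  have h3 := Subgroup.card_le_of_le (tri_le_of_fix hd)
  refine Nat.le_of_mul_le_mul_right ?_ (Nat.card_pos : 0 < Nat.card (tri G a b x))
  calc (orb (pairStab G a b) d).card * Nat.card (tri G a b x)
      ≤ (orb (pairStab G a b) d).card * Nat.card (tri G a b d) := Nat.mul_le_mul_left _ h3
    _ = _ := by rw [h2, h1]

theorem tri_eq_of_fix {a b x d : Ω} (hd : d ∈ (fixS (tri G a b x) : Finset Ω))
    (hc : (orb (pairStab G a b) d).card = (orb (pairStab G a b) x).card) :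
    tri G a b x = tri G a b d := by
  refine Subgroup.eq_of_le_of_card_ge (tri_le_of_fix hd) (le_of_eq ?_)
  have h1 := card_orb_tri (G := G) a b x
  rw [← card_orb_tri (G := G) a b d, hc] at h1
  exact (Nat.eq_of_mul_eq_mul_left (Finset.card_pos.2 ⟨x, orb_self _ x⟩) h1).symm

theorem card_fixS_eq_self {a b x : Ω} : x ∈ (fixS (tri G a b x) : Finset Ω) :=
  mem_fixS.2 fun _ hg => (mem_tri.1 hg).2.2

/-- The fixed points in the own orbit: all or at most a third. -/
theorem own_bound [DecidableEq Ω] (T : TT p c G Ω) {a b : Ω} (hab : a ≠ b) (x : Ω) :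
    orb (pairStab G a b) x ⊆ fixS (tri G a b x) ∨
      3 * (orb (pairStab G a b) x ∩ fixS (tri G a b x)).card ≤ (orb (pairStab G a b) x).card := by
  classical
  set L := setStab (fixS (tri G a b x) : Finset Ω) ⊓ pairStab G a b with hL
  have heq : orb L x = orb (pairStab G a b) x ∩ fixS (tri G a b x) := by
    ext d
    rw [Finset.mem_inter]
    constructor
    · intro hd
      obtain ⟨g, hg, rfl⟩ := mem_orb.1 hd
      exact ⟨mem_orb.2 ⟨g, (Subgroup.mem_inf.1 hg).2, rfl⟩,
        (mem_setStab.1 (Subgroup.mem_inf.1 hg).1 x).2 card_fixS_eq_self⟩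
    · rintro ⟨hd, hdf⟩
      obtain ⟨g, hg, rfl⟩ := mem_orb.1 hd
      refine mem_orb.2 ⟨g, Subgroup.mem_inf.2 ⟨mem_setStab_of_map_eq ?_, hg⟩, rfl⟩
      rw [tri_perms (perms_of_mem hg)]
      exact (tri_eq_of_fix hdf (card_orb_perms (perms_of_mem hg) x)).symm
  have hst : pairStab G a b ⊓ stabilizer G x ≤ L := by
    intro g hg
    obtain ⟨hg1, hg2⟩ := Subgroup.mem_inf.1 hg
    refine Subgroup.mem_inf.2 ⟨mem_setStab_of_map_eq ?_, hg1⟩
    rw [tri_perms (perms_of_mem hg1), mem_stabilizer_iff.1 hg2]
  obtain ⟨q, hq⟩ := orb_card_dvd (inf_le_right : L ≤ pairStab G a b) x hst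
  rw [heq] at hq
  have hodd := T.orb_odd hab (le_refl (pairStab G a b)) x
  rw [hq] at hodd
  obtain ⟨-, hqodd⟩ := Nat.odd_mul.1 hodd
  rcases eq_or_ne q 1 with rfl | hq1
  · left
    rw [mul_one] at hq
    exact Finset.inter_eq_left.1 (Finset.eq_of_subset_of_card_le Finset.inter_subset_left hq.le)
  · right
    calc 3 * _ = _ * 3 := mul_comm _ _
      _ ≤ _ := hq ▸ Nat.mul_le_mul_left _ (three_le_of_odd hqodd hq1)

/-- The stabilizer of a point with a full orbit of fixed points is normal. -/
theorem full_map [DecidableEq Ω] {a b x : Ω}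
    (hfull : orb (pairStab G a b) x ⊆ fixS (tri G a b x)) {g : G} (hg : g ∈ pairStab G a b) :
    (tri G a b x).map (MulAut.conj g).toMonoidHom = tri G a b x := by
  rw [tri_perms (perms_of_mem hg)]
  exact (tri_eq_of_fix (hfull (mem_orb.2 ⟨g, hg, rfl⟩)) (card_orb_perms (perms_of_mem hg) x)).symm

theorem full_inv [DecidableEq Ω] {a b x d : Ω}
    (hfull : orb (pairStab G a b) x ⊆ fixS (tri G a b x))
    (hd : d ∈ (fixS (tri G a b x) : Finset Ω)) :
    orb (pairStab G a b) d ⊆ fixS (tri G a b x) := by
  intro y hy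
  obtain ⟨g, hg, rfl⟩ := mem_orb.1 hy
  rw [← full_map hfull hg]
  exact mem_fixS_map.2 hd

/-- A two-element swapping two points. -/
theorem TT.exists_swap (T : TT p c G Ω) {a b : Ω} (hab : a ≠ b) :
    ∃ u : G, u • a = b ∧ u • b = a ∧ IsPGroup 2 (Subgroup.zpowers u) ∧
      ∃ e ∈ others a b, u • e = e ∧ ∀ v ∈ Subgroup.zpowers u, v ≠ 1 → ∀ x, v • x = x → x = e := by
  classical
  haveI := Fact.mk Nat.prime_two
  haveI := T.faith
  obtain ⟨g, hga, hgb⟩ := T.two a b b a hab hab.symm
  obtain ⟨i, k, hk, hgk⟩ := Nat.exists_eq_two_pow_mul_odd (orderOf_pos g).ne'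
  have hsq : g ^ 2 • a = a ∧ g ^ 2 • b = b := by
    rw [pow_two]; simp [mul_smul, hga, hgb]
  obtain ⟨m, rfl⟩ := hk
  have hm2 : ∀ n : ℕ, (g ^ (2 * n)) • a = a ∧ (g ^ (2 * n)) • b = b := fun n => by
    rw [pow_mul]
    exact mem_pairStab.1 (pow_mem (mem_pairStab.2 hsq) n)
  set u := g ^ (2 * m + 1) with hu
  have hua : u • a = b := by rw [hu, pow_succ', mul_smul, (hm2 m).1, hga]
  have hub : u • b = a := by rw [hu, pow_succ', mul_smul, (hm2 m).2, hgb]
  have hpu : IsPGroup 2 (Subgroup.zpowers u) := by
    refine IsPGroup.of_card (n := i) ?_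
    rw [Nat.card_zpowers, hu, orderOf_pow_of_dvd (by omega) (by rw [hgk]; exact dvd_mul_left _ _),
      hgk, Nat.mul_div_cancel _ (by omega)]
  refine ⟨u, hua, hub, hpu, ?_⟩
  have hu1 : u ≠ 1 := fun e' => hab (by rw [← hua, e', one_smul])
  have hev : ∀ v ∈ Subgroup.zpowers u, v ≠ 1 → fx Ω v = 1 := by
    intro v hv hv1
    refine T.even_fix v ?_
    obtain ⟨j, hj⟩ := IsPGroup.iff_orderOf.1 hpu ⟨v, hv⟩
    rw [Subgroup.orderOf_mk] at hj
    rcases j with _ | j
    · exact absurd (orderOf_eq_one_iff.1 (by rw [hj, pow_zero])) hv1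
    · rw [hj]; exact dvd_pow_self 2 j.succ_ne_zero
  have h1 := hev u (Subgroup.mem_zpowers u) hu1
  rw [← card_fixF, Finset.card_eq_one] at h1
  obtain ⟨e, he⟩ := h1
  have hue : u • e = e := mem_fixF.1 (by rw [he]; simp)
  refine ⟨e, mem_others.2 ⟨?_, ?_⟩, hue, fun v hv hv1 x hx => ?_⟩
  · rintro rfl; exact hab (hub.symm.trans hue)
  · rintro rfl; exact hab (hue.symm.trans hua)
  · have hve : v • e = e :=
      (Subgroup.zpowers_le.2 (mem_stabilizer_iff.2 hue : u ∈ stabilizer G e)) hv
    exact Finset.card_le_one.1 ((card_fixF (Ω := Ω) v).trans_le (hev v hv hv1).le) x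
      (mem_fixF.2 hx) e (mem_fixF.2 hve)

/-- An odd divisor of `3 p - 1` smaller than it is at most a quarter of it. -/
theorem four_le_of_dvd {p B : ℕ} (h4 : p % 4 = 3) (hd : 2 * B + 1 ∣ 3 * p - 1) :
    4 * (2 * B + 1) ≤ 3 * p - 1 := by
  obtain ⟨j, hj⟩ : 4 ∣ 3 * p - 1 := by omega
  rw [hj] at hd ⊢
  refine Nat.mul_le_mul_left 4 (Nat.le_of_dvd (by omega) (Nat.Coprime.dvd_of_dvd_mul_left ?_ hd))
  rw [show (4 : ℕ) = 2 ^ 2 from rfl, Nat.coprime_pow_right_iff (by norm_num), Nat.coprime_comm,
    Nat.prime_two.coprime_iff_not_dvd]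
  omega

/-- Three orbits are impossible. -/
theorem TT.false_five (T : TT p c G Ω) {a b : Ω} (hab : a ≠ b) [Fintype (pairStab G a b)]
    (hM : (orbs (pairStab G a b) (Finset.univ : Finset Ω)).card = 5)
    (hW : Nat.card (pairStab G a b) * (6 * p + 10) ≤
      ∑ d : pairStab G a b, fx Ω (d : G) * (fx Ω (d : G) - 1)) : False := by
  classical
  haveI := T.faith
  have h5 := T.five
  have h4 := T.mod4
  have hn0 : 0 < Nat.card (pairStab G a b) := Nat.card_pos
  have hM' : (orbs (pairStab G a b) (others a b)).card = 3 := by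
    have := card_orbs_others (G := G) hab
    omega
  obtain ⟨u, hua, hub, hpu, e, he, hue, huniq⟩ := T.exists_swap hab
  have hu : Perms a b u := Or.inr ⟨hua, hub⟩
  set A := orb (pairStab G a b) e with hA
  obtain ⟨b₀, hb₀, hb₀A⟩ : ∃ x ∈ others a b, x ∉ A := by
    by_contra hcon
    push Not at hcon
    have hsub : orbs (pairStab G a b) (others a b) ⊆ {A} := by
      intro O hO
      obtain ⟨x, hx, rfl⟩ := Finset.mem_image.1 hO
      exact Finset.mem_singleton.2 (orb_eq (hcon x hx))
    have := Finset.card_le_card hsub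
    rw [Finset.card_singleton] at this
    omega
  set B := orb (pairStab G a b) b₀ with hB
  set B' := orb (pairStab G a b) (u • b₀) with hB'
  have hub₀ : u • b₀ ∈ others a b := by
    obtain ⟨h1, h2⟩ := mem_others.1 hb₀
    exact mem_others.2 ⟨fun h => h2 (MulAction.injective u (h.trans hua.symm)),
      fun h => h1 (MulAction.injective u (h.trans hub.symm))⟩
  have hB'img : B' = B.image (u • ·) := orb_perms hu b₀
  have hAimg : A.image (u • ·) = A := by rw [hA, ← orb_perms hu, hue]
  have hBc : B'.card = B.card := card_orb_perms hu b₀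
  have hBodd := T.orb_odd hab (le_refl (pairStab G a b)) b₀
  have hAodd := T.orb_odd hab (le_refl (pairStab G a b)) e
  rw [← hB] at hBodd
  rw [← hA] at hAodd
  have hne1 : B ≠ A := fun h => hb₀A (h ▸ orb_self _ b₀)
  have hne2 : B' ≠ A := by
    intro h
    rw [hB'img] at h
    exact hne1 (Finset.image_injective (MulAction.injective u) (h.trans hAimg.symm))
  have hne3 : B' ≠ B := by
    intro h
    have hinv : ∀ v ∈ Subgroup.zpowers u, ∀ x ∈ B, v • x ∈ B := by
      have hu' : u ∈ setStab B := by
        intro x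
        conv_lhs => rw [← h, hB'img]
        exact (MulAction.injective u).mem_finset_image
      exact fun v hv x hx => (mem_setStab.1 (Subgroup.zpowers_le.2 hu' hv) x).2 hx
    have hd := card_dvd_of_free (Subgroup.zpowers u) B hinv fun v hv x hx hvx => by
      by_contra hv1
      exact hne1.symm (by
        rw [hA, ← huniq v hv hv1 x hvx]
        exact orb_eq hx)
    obtain ⟨i, hi⟩ := hpu.exists_card_eq
    rw [hi] at hd
    rcases i with _ | i
    · rw [pow_zero, Subgroup.card_eq_one, Subgroup.zpowers_eq_bot] at hi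
      exact hab (by rw [← hua, hi, one_smul])
    · exact (Nat.not_even_iff_odd.2 hBodd) (even_iff_two_dvd.2 ((dvd_pow_self 2 i.succ_ne_zero).trans hd))
  have hsub3 : ({A, B, B'} : Finset (Finset Ω)) ⊆ orbs (pairStab G a b) (others a b) := by
    simp only [Finset.insert_subset_iff, Finset.singleton_subset_iff]
    exact ⟨Finset.mem_image_of_mem _ he, Finset.mem_image_of_mem _ hb₀,
      Finset.mem_image_of_mem _ hub₀⟩
  have horbs : orbs (pairStab G a b) (others a b) = {A, B, B'} := by
    refine (Finset.eq_of_subset_of_card_le hsub3 ?_).symm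
    rw [hM', Finset.card_eq_three.2 ⟨A, B, B', hne1.symm, hne2.symm, hne3.symm, rfl⟩]
  have hcover : ∀ x ∈ others a b, x ∈ A ∨ x ∈ B ∨ x ∈ B' := by
    intro x hx
    have := Finset.mem_image_of_mem (orb (pairStab G a b)) hx
    rw [← orbs] at this
    have h' : orb (pairStab G a b) x ∈ ({A, B, B'} : Finset (Finset Ω)) := horbs ▸ this
    simp only [Finset.mem_insert, Finset.mem_singleton] at h'
    rcases h' with h' | h' | h'
    · exact Or.inl (h' ▸ orb_self _ x)
    · exact Or.inr (Or.inl (h' ▸ orb_self _ x))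
    · exact Or.inr (Or.inr (h' ▸ orb_self _ x))
  have hfib : ∀ O ∈ ({A, B, B'} : Finset (Finset Ω)),
      (others a b).filter (fun x => orb (pairStab G a b) x = O) = O := by
    intro O hO
    obtain ⟨x, hx, rfl⟩ := Finset.mem_image.1 (hsub3 hO)
    exact orb_fiber (fun g hg y hy => others_inv hg hy) hx
  have hsum : A.card + 2 * B.card = 3 * p - 2 := by
    have h1 := Finset.card_eq_sum_card_fiberwise (f := fun x => orb (pairStab G a b) x)
      (s := others a b) (t := orbs (pairStab G a b) (others a b))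
      (fun x hx => Finset.mem_image_of_mem _ hx)
    rw [card_others T hab, horbs, Finset.sum_congr rfl (fun O hO => by rw [hfib O hO]),
      Finset.sum_insert (by simp [hne1.symm, hne2.symm]), Finset.sum_pair hne3.symm, hBc] at h1
    omega
  have hB1 : 1 ≤ B.card := Finset.card_pos.2 ⟨b₀, orb_self _ _⟩
  have hA1 : 1 ≤ A.card := Finset.card_pos.2 ⟨e, orb_self _ _⟩
  have hAB : A.card ≠ B.card := by omega
  -- the bound
  set fe := (fixS (tri G a b e) : Finset Ω).card with hfe
  set fb := (fixS (tri G a b b₀) : Finset Ω).card with hfb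
  have hineq : 9 * p + 15 ≤ 2 * fe + 4 * fb := by
    rw [sum_split T hab, hM] at hW
    have h3 : 3 * ∑ x ∈ others a b,
        Nat.card (tri G a b x) * (orbs (tri G a b x) (Finset.univ : Finset Ω)).card ≤
        ∑ x ∈ others a b, Nat.card (tri G a b x) *
          (3 * p + 2 * (fixS (tri G a b x) : Finset Ω).card) := by
      rw [Finset.mul_sum]
      refine Finset.sum_le_sum fun x _ => ?_
      rw [Nat.mul_left_comm]
      exact Nat.mul_le_mul_left _ (T.orbs_three hab (tri_le a b x))
    have hdec : ∀ F : Ω → ℕ, ∑ x ∈ others a b, F x =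
        ∑ x ∈ A, F x + (∑ x ∈ B, F x + ∑ x ∈ B', F x) := by
      intro F
      rw [← Finset.sum_fiberwise_of_maps_to (g := fun x => orb (pairStab G a b) x)
        (t := orbs (pairStab G a b) (others a b)) (fun x hx => Finset.mem_image_of_mem _ hx),
        Finset.sum_congr horbs (fun O hO => by rw [hfib O hO]),
        Finset.sum_insert (by simp [hne1.symm, hne2.symm]), Finset.sum_pair hne3.symm]
    rw [hdec, hdec] at h3
    rw [hdec] at hW
    have hval : ∀ (z : Ω), ∑ x ∈ orb (pairStab G a b) z, Nat.card (tri G a b x) *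
          (3 * p + 2 * (fixS (tri G a b x) : Finset Ω).card) =
        Nat.card (pairStab G a b) * (3 * p + 2 * (fixS (tri G a b z) : Finset Ω).card) := by
      intro z
      rw [← card_orb_tri a b z, mul_assoc]
      refine Finset.sum_const_nat fun x hx => ?_
      obtain ⟨g, hg, rfl⟩ := mem_orb.1 hx
      rw [fix_count_perms (perms_of_mem hg), ← tri_perms (perms_of_mem hg), card_map_conj]
    rw [hA, hB, hB', hval, hval, hval, fix_count_perms hu, ← hfe, ← hfb] at h3
    refine Nat.le_of_mul_le_mul_left ?_ hn0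
    linarith
  have hsplit : ∀ H : Subgroup G, (fixS H : Finset Ω).card ≤
      2 + ((A ∩ fixS H).card + ((B ∩ fixS H).card + (B' ∩ fixS H).card)) := by
    intro H
    refine (Finset.card_le_card (t := {a, b} ∪ ((A ∩ fixS H) ∪ ((B ∩ fixS H) ∪ (B' ∩ fixS H))))
      fun x hx => ?_).trans ?_
    · simp only [Finset.mem_union, Finset.mem_insert, Finset.mem_singleton, Finset.mem_inter]
      by_cases h1 : x = a
      · exact Or.inl (Or.inl h1)
      by_cases h2 : x = b
      · exact Or.inl (Or.inr h2)
      rcases hcover x (mem_others.2 ⟨h2, h1⟩) with h | h | h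
      · exact Or.inr (Or.inl ⟨h, hx⟩)
      · exact Or.inr (Or.inr (Or.inl ⟨h, hx⟩))
      · exact Or.inr (Or.inr (Or.inr ⟨h, hx⟩))
    · refine (Finset.card_union_le _ _).trans (Nat.add_le_add Finset.card_le_two ?_)
      exact (Finset.card_union_le _ _).trans (Nat.add_le_add_left (Finset.card_union_le _ _) _)
  have hfe' := hsplit (tri G a b e)
  have hfb' := hsplit (tri G a b b₀)
  rw [← hfe] at hfe'
  rw [← hfb] at hfb'
  have hcap : ∀ {O : Finset Ω} (H : Subgroup G), (O ∩ fixS H).card ≤ O.card := fun H =>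
    Finset.card_le_card Finset.inter_subset_left
  have hsize : ∀ {x d : Ω}, d ∈ (fixS (tri G a b x) : Finset Ω) → ∀ {O O' : Finset Ω},
      orb (pairStab G a b) d = O → orb (pairStab G a b) x = O' → O.card ≤ O'.card := by
    intro x d hd O O' h1 h2
    rw [← h1, ← h2]
    exact orb_le_of_fix hd
  rcases own_bound T hab b₀ with hfull | hown
  swap
  · -- no full orbit at `b₀`
    rw [← hB] at hown
    have hB'3 : 3 * (B' ∩ fixS (tri G a b b₀)).card ≤ B.card := by
      rcases Finset.eq_empty_or_nonempty (B' ∩ fixS (tri G a b b₀) : Finset Ω) with h0 | ⟨d, hd⟩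
      · rw [h0, Finset.card_empty]; omega
      obtain ⟨hdB, hdf⟩ := Finset.mem_inter.1 hd
      have hc : (orb (pairStab G a b) d).card = (orb (pairStab G a b) b₀).card := by
        rw [orb_eq hdB]; exact hBc
      have heq := tri_eq_of_fix hdf hc
      rcases own_bound T hab d with hf | hw
      · exfalso
        have hnot : B ⊆ fixS (tri G a b b₀) := by
          intro y hy
          obtain ⟨g, hg, rfl⟩ := mem_orb.1 hy
          have h1 := full_map hf hg
          rw [← heq] at h1
          rw [← h1]
          exact mem_fixS_map.2 card_fixS_eq_self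
        rw [Finset.inter_eq_left.2 hnot] at hown
        omega
      · rw [← heq, orb_eq hdB, hBc] at hw
        exact hw
    rcases Nat.lt_or_ge A.card B.card with hlt | hge
    · have hzero : ∀ O : Finset Ω, (∀ d ∈ O, orb (pairStab G a b) d = O) → B.card ≤ O.card →
          O ∩ fixS (tri G a b e) = ∅ := by
        intro O hO hc
        refine Finset.eq_empty_of_forall_notMem fun d hd => ?_
        obtain ⟨hd1, hd2⟩ := Finset.mem_inter.1 hd
        have := hsize hd2 (hO d hd1) hA.symm
        omega
      rw [hzero B (fun d hd => orb_eq hd) le_rfl, hzero B' (fun d hd => orb_eq hd) hBc.ge,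
        Finset.card_empty] at hfe'
      have := hcap (O := A) (tri G a b e)
      have := hcap (O := A) (tri G a b b₀)
      omega
    · have hzero : A ∩ fixS (tri G a b b₀) = ∅ := by
        refine Finset.eq_empty_of_forall_notMem fun d hd => ?_
        obtain ⟨hd1, hd2⟩ := Finset.mem_inter.1 hd
        have := hsize hd2 ((orb_eq hd1).trans hA.symm) hB.symm
        omega
      rw [hzero, Finset.card_empty] at hfb'
      have := hcap (O := A) (tri G a b e)
      have := hcap (O := B) (tri G a b e)
      have := hcap (O := B') (tri G a b e)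
      omega
  -- `K` fixes `B` pointwise
  rw [← hB] at hfull
  set K := tri G a b b₀ with hK
  set K' := tri G a b (u • b₀) with hK'
  have hKK' : K.map (MulAut.conj u).toMonoidHom = K' := tri_perms hu b₀
  have hfix' : ∀ x ∈ (fixS K : Finset Ω), u • x ∈ (fixS K' : Finset Ω) := fun x hx => by
    rw [← hKK']; exact mem_fixS_map.2 hx
  have hall : ∀ {H : Subgroup G}, H ≤ pairStab G a b → A ⊆ fixS H → B ⊆ fixS H → B' ⊆ fixS H →
      H = ⊥ := by
    intro H hH h1 h2 h3
    refine (Subgroup.eq_bot_iff_forall H).2 fun g hg => ?_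
    refine eq_of_smul_eq_smul (α := Ω) fun x => ?_
    rw [one_smul]
    obtain ⟨g1, g2⟩ := mem_pairStab.1 (hH hg)
    by_cases hxa : x = a
    · rw [hxa, g1]
    by_cases hxb : x = b
    · rw [hxb, g2]
    rcases hcover x (mem_others.2 ⟨hxb, hxa⟩) with h | h | h
    · exact mem_fixS.1 (h1 h) g hg
    · exact mem_fixS.1 (h2 h) g hg
    · exact mem_fixS.1 (h3 h) g hg
  have hbig : (3 * p - 2) * ((2 * p - 1) * (2 * p - 1)) ≤ 3 * Nat.card (pairStab G a b) := by
    rw [T.card_pairStab hab]
    have := T.cbig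
    exact Nat.mul_le_mul_left _ (Nat.mul_le_mul (by omega) (by omega))
  have hAK : A ∩ fixS K = ∅ := by
    refine Finset.eq_empty_of_forall_notMem fun d hd => ?_
    obtain ⟨hd1, hd2⟩ := Finset.mem_inter.1 hd
    have hAf : A ⊆ fixS K := by
      rw [hA, ← orb_eq hd1]
      exact full_inv hfull hd2
    have hAf' : A ⊆ fixS K' := by
      intro x hx
      rw [← hAimg, Finset.mem_image] at hx
      obtain ⟨y, hy, rfl⟩ := hx
      exact hfix' y (hAf hy)
    have hBf' : B' ⊆ fixS K' := by
      intro x hx
      rw [hB'img, Finset.mem_image] at hx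
      obtain ⟨y, hy, rfl⟩ := hx
      exact hfix' y (hfull hy)
    have hinf : K ⊓ K' = ⊥ := hall (inf_le_left.trans (tri_le _ _ _))
      (fun x hx => mem_fixS.2 fun g hg => mem_fixS.1 (hAf hx) g hg.1)
      (fun x hx => mem_fixS.2 fun g hg => mem_fixS.1 (hfull hx) g hg.1)
      (fun x hx => mem_fixS.2 fun g hg => mem_fixS.1 (hBf' hx) g hg.2)
    have hle := Nat.card_le_card_of_injective (α := K × K') (β := pairStab G a b)
      (fun q => ⟨q.1.1 * q.2.1, mul_mem (tri_le _ _ _ q.1.2) (tri_le _ _ _ q.2.2)⟩) (by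
        rintro ⟨k, k'⟩ ⟨l, l'⟩ hq
        have hq' : (k : G) * k' = l * l' := congrArg Subtype.val hq
        have hmem : (l : G)⁻¹ * k ∈ K ⊓ K' := Subgroup.mem_inf.2 ⟨mul_mem (inv_mem l.2) k.2, by
          rw [show (l : G)⁻¹ * k = l' * (k' : G)⁻¹ by
            rw [eq_mul_inv_iff_mul_eq, mul_assoc, hq', inv_mul_cancel_left]]
          exact mul_mem l'.2 (inv_mem k'.2)⟩
        rw [hinf, Subgroup.mem_bot, inv_mul_eq_one] at hmem
        rw [← hmem] at hq'
        exact Prod.ext (Subtype.ext hmem.symm) (Subtype.ext (mul_left_cancel hq')))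
    rw [Nat.card_prod] at hle
    have h1 := card_orb_tri (G := G) a b b₀
    have h2 := card_orb_tri (G := G) a b (u • b₀)
    rw [← hB, ← hK] at h1
    rw [← hB', hBc, ← hK'] at h2
    have h3 : Nat.card (pairStab G a b) ≤ B.card * B.card := by
      refine Nat.le_of_mul_le_mul_left ?_ hn0
      calc Nat.card (pairStab G a b) * Nat.card (pairStab G a b)
          = (B.card * Nat.card K) * (B.card * Nat.card K') := by rw [h1, h2]
        _ = (B.card * B.card) * (Nat.card K * Nat.card K') := by ring
        _ ≤ (B.card * B.card) * Nat.card (pairStab G a b) := Nat.mul_le_mul_left _ hle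
        _ = _ := mul_comm _ _
    have hB2 : 2 * B.card ≤ 3 * p - 2 := by omega
    zify [show 2 ≤ 3 * p by omega, show 1 ≤ 2 * p by omega] at hbig hB2
    nlinarith [Nat.mul_le_mul (le_refl (Nat.card (pairStab G a b))) (le_refl 1)]
  rw [hAK, Finset.card_empty] at hfb'
  have hBK := hcap (O := B) K
  have hB'K := hcap (O := B') K
  -- the fixed points of the stabilizer of `e`
  have hfeA : (∃ d ∈ B ∪ B', d ∈ (fixS (tri G a b e) : Finset Ω)) →
      B.card ≤ A.card ∧ 3 * (A ∩ fixS (tri G a b e)).card ≤ A.card := by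
    rintro ⟨d, hd, hdf⟩
    refine ⟨?_, ?_⟩
    · have hc : (orb (pairStab G a b) d).card = B.card := by
        rcases Finset.mem_union.1 hd with h | h
        · rw [orb_eq h]
        · rw [orb_eq h]; exact hBc
      have := orb_le_of_fix hdf
      rw [hc, ← hA] at this
      exact this
    · rcases own_bound T hab e with hf | hw
      swap
      · exact hw
      exfalso
      rw [← hA] at hf
      have hEu : (tri G a b e).map (MulAut.conj u).toMonoidHom = tri G a b e := by
        rw [tri_perms hu, hue]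
      have huf : ∀ x, x ∈ (fixS (tri G a b e) : Finset Ω) →
          u • x ∈ (fixS (tri G a b e) : Finset Ω) := fun x hx => by
        rw [← hEu]; exact mem_fixS_map.2 hx
      have horb : orb (pairStab G a b) d ⊆ fixS (tri G a b e) := full_inv hf hdf
      have horb' : (orb (pairStab G a b) d).image (u • ·) ⊆ fixS (tri G a b e) := by
        intro x hx
        obtain ⟨y, hy, rfl⟩ := Finset.mem_image.1 hx
        exact huf y (horb hy)
      have hboth : B ⊆ fixS (tri G a b e) ∧ B' ⊆ fixS (tri G a b e) := by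
        have hB'B : B'.image (u • ·) = B := by
          rw [hB', ← orb_perms hu]
          have h2 : u • u • b₀ ∈ others a b := by
            obtain ⟨h1, h2⟩ := mem_others.1 hub₀
            exact mem_others.2 ⟨fun h => h2 (MulAction.injective u (h.trans hua.symm)),
              fun h => h1 (MulAction.injective u (h.trans hub.symm))⟩
          rcases hcover _ h2 with h | h | h
          · exfalso
            refine hne2 ?_
            rw [← hAimg] at h
            obtain ⟨y, hy, hy'⟩ := Finset.mem_image.1 h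
            rw [hB', ← MulAction.injective u hy']
            exact orb_eq hy
          · exact orb_eq h
          · exfalso
            refine hne3.symm ?_
            rw [hB'img] at h
            obtain ⟨y, hy, hy'⟩ := Finset.mem_image.1 h
            rw [hB', ← MulAction.injective u hy']
            exact (orb_eq hy).symm
        rcases Finset.mem_union.1 hd with h | h
        · rw [orb_eq h] at horb horb'
          exact ⟨horb, hB'img ▸ horb'⟩
        · rw [orb_eq h] at horb horb'
          exact ⟨hB'B ▸ horb', horb⟩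
      have hbot := hall (tri_le a b e) hf hboth.1 hboth.2
      have h1 := card_orb_tri (G := G) a b e
      rw [hbot, Subgroup.card_bot, mul_one, ← hA] at h1
      zify [show 2 ≤ 3 * p by omega, show 1 ≤ 2 * p by omega] at hbig
      have hA3 : (A.card : ℤ) ≤ 3 * p := by omega
      have hh : (Nat.card (pairStab G a b) : ℤ) = A.card := by rw [h1]
      nlinarith
  have hpart : (B' ∩ fixS K).card = 0 ∨ 8 * B.card + 5 ≤ 3 * p := by
    rcases Finset.eq_empty_or_nonempty (B' ∩ fixS K : Finset Ω) with h0 | ⟨d0, hd0⟩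
    · left; rw [h0, Finset.card_empty]
    right
    obtain ⟨hd0B, hd0f⟩ := Finset.mem_inter.1 hd0
    have hB'f : B' ⊆ fixS K := by
      rw [hB', ← orb_eq hd0B]
      exact full_inv hfull hd0f
    have hBsame : ∀ x ∈ others a b, x ∉ A → tri G a b x = K := by
      intro x hx hxA
      rcases hcover x hx with h | h | h
      · exact absurd h hxA
      · exact (tri_eq_of_fix (hfull h) (by rw [orb_eq h])).symm
      · exact (tri_eq_of_fix (hB'f h) (by rw [orb_eq h]; exact hBc)).symm
    set Φ : Finset Ω := fixS K with hΦ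
    set L := setStab Φ ⊓ stabilizer G a with hL
    have haΦ : a ∈ Φ := mem_fixS.2 fun g hg => (mem_tri.1 hg).1
    have hbΦ : b ∈ Φ := mem_fixS.2 fun g hg => (mem_tri.1 hg).2.1
    have hLb : orb L b = Φ.erase a := by
      ext x
      rw [Finset.mem_erase]
      constructor
      · intro hx
        obtain ⟨g, hg, rfl⟩ := mem_orb.1 hx
        obtain ⟨hg1, hg2⟩ := Subgroup.mem_inf.1 hg
        exact ⟨fun e' => hab (MulAction.injective g (e'.trans hg2.symm)).symm,
          (mem_setStab.1 hg1 b).2 hbΦ⟩
      · rintro ⟨hxa, hxΦ⟩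
        by_cases hxb : x = b
        · exact hxb ▸ orb_self _ _
        have hxo : x ∈ others a b := mem_others.2 ⟨hxb, hxa⟩
        have hxA : x ∉ A := fun h => Finset.notMem_empty x (hAK ▸ Finset.mem_inter.2 ⟨h, hxΦ⟩)
        obtain ⟨g, hga, hgb⟩ := T.two a b a x hab hxa.symm
        refine mem_orb.2 ⟨g, Subgroup.mem_inf.2 ⟨mem_setStab_of_map_eq ?_, hga⟩, hgb⟩
        set z := g⁻¹ • b with hz
        have hgz : g • z = b := smul_inv_smul g b
        have hzo : z ∈ others a b := mem_others.2
          ⟨fun e' => hxb (hgb.symm.trans ((congrArg (g • ·) e').symm.trans hgz)),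
            fun e' => hab (hga.symm.trans ((congrArg (g • ·) e').symm.trans hgz))⟩
        have hmap : (tri G a b z).map (MulAut.conj g).toMonoidHom = K := by
          rw [tri_map, hga, hgb, hgz, tri, inf_right_comm, ← tri, hBsame x hxo hxA]
        have hzA : z ∉ A := by
          intro hzA
          have h1 := card_orb_tri (G := G) a b z
          rw [← card_map_conj g, hmap, orb_eq hzA, ← hA] at h1
          have h2 := card_orb_tri (G := G) a b b₀
          rw [← hB, ← hK, ← h1] at h2
          exact hAB (Nat.eq_of_mul_eq_mul_right Nat.card_pos h2).symm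
        rw [hBsame z hzo hzA] at hmap
        exact hmap
    have hst : stabilizer G a ⊓ stabilizer G b ≤ L := fun g hg =>
      Subgroup.mem_inf.2 ⟨mem_setStab_of_map_eq (full_map hfull hg), (Subgroup.mem_inf.1 hg).1⟩
    have hdvd := orb_card_dvd (inf_le_right : L ≤ stabilizer G a) b hst
    rw [hLb, T.orb_stab hab, Finset.card_erase_of_mem haΦ,
      Finset.card_erase_of_mem (Finset.mem_univ a), Finset.card_univ, T.card_space] at hdvd
    have hΦc : Φ.card = 2 * B.card + 2 := by
      have hd : Disjoint B B' := by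
        rw [Finset.disjoint_left]
        intro y hy hy'
        exact hne3 ((orb_eq hy').symm.trans (orb_eq hy))
      have he' : Φ = {a, b} ∪ (B ∪ B') := by
        refine Finset.Subset.antisymm (fun x hx => ?_) ?_
        · simp only [Finset.mem_union, Finset.mem_insert, Finset.mem_singleton]
          by_cases h1 : x = a
          · exact Or.inl (Or.inl h1)
          by_cases h2 : x = b
          · exact Or.inl (Or.inr h2)
          rcases hcover x (mem_others.2 ⟨h2, h1⟩) with h | h | h
          · exact absurd (hAK ▸ Finset.mem_inter.2 ⟨h, hx⟩) (Finset.notMem_empty x)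
          · exact Or.inr (Or.inl h)
          · exact Or.inr (Or.inr h)
        · simp only [Finset.union_subset_iff, Finset.insert_subset_iff, Finset.singleton_subset_iff]
          exact ⟨⟨haΦ, hbΦ⟩, hfull, hB'f⟩
      rw [he', Finset.card_union_of_disjoint, Finset.card_pair hab,
        Finset.card_union_of_disjoint hd, hBc]
      · omega
      · rw [Finset.disjoint_left]
        intro y hy hy'
        have hyo : y ∈ others a b := by
          rcases Finset.mem_union.1 hy' with h | h
          · exact orb_subset_others hb₀ h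
          · exact orb_subset_others hub₀ h
        obtain ⟨h1, h2⟩ := mem_others.1 hyo
        simp only [Finset.mem_insert, Finset.mem_singleton] at hy
        rcases hy with h | h
        · exact h2 h
        · exact h1 h
    rw [hΦc, show 2 * B.card + 2 - 1 = 2 * B.card + 1 by omega] at hdvd
    have := four_le_of_dvd h4 hdvd
    omega
  have hBe := hcap (O := B) (tri G a b e)
  have hB'e := hcap (O := B') (tri G a b e)
  have hAe := hcap (O := A) (tri G a b e)
  by_cases hex : ∃ d ∈ B ∪ B', d ∈ (fixS (tri G a b e) : Finset Ω)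
  · obtain ⟨h1, h2⟩ := hfeA hex
    rcases hpart with h0 | h0 <;> omega
  · have hz : ∀ O : Finset Ω, O ⊆ B ∪ B' → (O ∩ fixS (tri G a b e)).card = 0 := by
      intro O hO
      rw [Finset.card_eq_zero]
      refine Finset.eq_empty_of_forall_notMem fun d hd => hex ⟨d, hO (Finset.mem_inter.1 hd).1,
        (Finset.mem_inter.1 hd).2⟩
    have := hz B Finset.subset_union_left
    have := hz B' Finset.subset_union_right
    rcases hpart with h0 | h0 <;> omega

end CfsgLib.DegreeThreeP
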