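import Cfsg.Agent.DegreeThreeP.TwoTrans.Split

/-!
# Degree `3 p`, case `1 + χ`, `p ≡ 3` modulo four: the triply transitive case

Some three-point stabilizer has at least `p` orbits.  The subgroup `X` generated by its elements of
order prime to three has long orbits off its fixed points, which form a Steiner system too large
for the arithmetic; so the stabilizer is a 3-group, against the centralizer of a central element.
-/

set_option autoImplicit false
set_option linter.unusedSectionVars false
set_option linter.style.haveILetI false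

namespace CfsgLib.DegreeThreeP

open MulAction

universe u v

/-- Generated by the elements of order prime to three. -/
def gen3 {G : Type u} [Group G] (K : Subgroup G) : Subgroup G :=
  Subgroup.closure {g | g ∈ K ∧ ¬ 3 ∣ orderOf g}

theorem gen3_le {G : Type u} [Group G] (K : Subgroup G) : gen3 K ≤ K :=
  (Subgroup.closure_le K).2 fun _ hg => hg.1

theorem mem_gen3 {G : Type u} [Group G] {K : Subgroup G} {g : G} (hg : g ∈ K)
    (h3 : ¬ 3 ∣ orderOf g) : g ∈ gen3 K := Subgroup.subset_closure ⟨hg, h3⟩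

theorem gen3_map {G : Type u} [Group G] (g : G) (K : Subgroup G) :
    (gen3 K).map (MulAut.conj g).toMonoidHom = gen3 (K.map (MulAut.conj g).toMonoidHom) := by
  rw [gen3, gen3, MonoidHom.map_closure]
  congr 1
  ext k
  constructor
  · rintro ⟨l, ⟨hl, h3⟩, rfl⟩
    refine ⟨Subgroup.mem_map_of_mem _ hl, ?_⟩
    rwa [show (MulAut.conj g).toMonoidHom l = MulAut.conj g l from rfl, MulEquiv.orderOf_eq]
  · rintro ⟨⟨l, hl, rfl⟩, h3⟩
    rw [show (MulAut.conj g).toMonoidHom l = MulAut.conj g l from rfl, MulEquiv.orderOf_eq] at h3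
    exact ⟨l, ⟨hl, h3⟩, rfl⟩

/-- No Steiner system of these parameters. -/
theorem steiner_false {p g : ℕ} (h5 : 5 ≤ p) (h4 : p % 4 = 3) (hg3 : 3 ≤ g) (hlt : g < 3 * p)
    (h1 : (g - 2) ∣ 3 * p - 2) (h2 : (g - 1) * (g - 2) ∣ (3 * p - 1) * (3 * p - 2))
    (hbig : p ≤ 2 * g) : False := by
  obtain ⟨k, hk⟩ := h1
  have hk1 : k ≠ 1 := by rintro rfl; omega
  have hk0 : k ≠ 0 := by rintro rfl; omega
  have hkodd : k % 2 = 1 := by
    by_contra h
    obtain ⟨j, rfl⟩ : ∃ j, k = 2 * j := ⟨k / 2, by omega⟩
    rw [show (g - 2) * (2 * j) = 2 * ((g - 2) * j) by ring] at hk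
    omega
  have hk3 : k % 3 ≠ 0 := by
    intro h
    obtain ⟨j, rfl⟩ : ∃ j, k = 3 * j := ⟨k / 3, by omega⟩
    rw [show (g - 2) * (3 * j) = 3 * ((g - 2) * j) by ring] at hk
    omega
  have h2' : g - 1 ∣ k * (3 * p - 1) := by
    refine Nat.dvd_of_mul_dvd_mul_right (show 0 < g - 2 by omega) (h2.trans ?_)
    rw [hk]
    exact dvd_of_eq (by ring)
  rcases lt_or_ge k 9 with hk9 | hk9
  · interval_cases k <;> try omega
    have e : 5 * (g - 1) = 3 * (p + 1) := by omega
    have h6 : 3 ∣ 5 * 5 * (3 * p - 1) :=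
      (dvd_mul_right 3 (p + 1)).trans (e ▸ (mul_assoc 5 5 _).symm ▸ Nat.mul_dvd_mul_left 5 h2')
    omega
  · have h9 : (g - 2) * 9 ≤ 3 * p - 2 := hk ▸ Nat.mul_le_mul_left _ hk9
    have hp7 : p = 7 := by omega
    subst hp7
    have hg5 : g ≤ 5 := by omega
    interval_cases g <;> omega

variable {p c : ℕ} {G : Type u} [Group G] [Fintype G] {Ω : Type v} [Fintype Ω] [MulAction G Ω]

theorem card_fixS_ge {H : Subgroup G} {s : Finset Ω} (hs : ∀ x ∈ s, x ∈ (fixS H : Finset Ω)) :
    s.card ≤ (fixS H : Finset Ω).card := Finset.card_le_card hs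

/-- The triply transitive case does not occur. -/
theorem TT.false_three (T : TT p c G Ω) {a b : Ω} (hab : a ≠ b) [Fintype (pairStab G a b)]
    (hM : (orbs (pairStab G a b) (Finset.univ : Finset Ω)).card = 3)
    (hW : Nat.card (pairStab G a b) * (p + 3) ≤
      ∑ d : pairStab G a b, fx Ω (d : G) * (fx Ω (d : G) - 1))
    (hpairs : ∀ y : G, orderOf y = 3 →
      Nat.card (Subgroup.centralizer ({y} : Set G)) ∣ p * c * (3 * p - fx Ω y)) : False := by
  classical
  haveI := T.faith
  haveI := Fact.mk Nat.prime_three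
  have h5 := T.five
  have h4 := T.mod4
  have hnD : 0 < Nat.card (pairStab G a b) := Nat.card_pos
  have hM' : (orbs (pairStab G a b) (others a b)).card = 1 := by
    have := card_orbs_others (G := G) hab
    omega
  rw [sum_split T hab, hM] at hW
  obtain ⟨e, he, horb⟩ : ∃ e ∈ others a b,
      p ≤ (orbs (tri G a b e) (Finset.univ : Finset Ω)).card := by
    by_contra hcon
    push Not at hcon
    have h1 : ∑ x ∈ others a b, Nat.card (tri G a b x) *
        (orbs (tri G a b x) (Finset.univ : Finset Ω)).card ≤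
        (∑ x ∈ others a b, Nat.card (tri G a b x)) * (p - 1) := by
      rw [Finset.sum_mul]
      exact Finset.sum_le_sum fun x hx => Nat.mul_le_mul_left _ (by have := hcon x hx; omega)
    rw [sum_tri, hM', one_mul] at h1
    have h2 : Nat.card (pairStab G a b) * (p - 1) + Nat.card (pairStab G a b) =
        Nat.card (pairStab G a b) * p := by
      rw [← Nat.mul_succ]; congr 1; omega
    rw [Nat.mul_add, Nat.mul_comm (Nat.card (pairStab G a b)) 3] at hW
    omega
  have hO : orb (pairStab G a b) e = others a b := by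
    refine Finset.Subset.antisymm (orb_subset_others he) fun x hx => ?_
    obtain ⟨O, hO⟩ := Finset.card_eq_one.1 hM'
    have h1 : orb (pairStab G a b) x ∈ orbs (pairStab G a b) (others a b) :=
      Finset.mem_image_of_mem _ hx
    have h2 : orb (pairStab G a b) e ∈ orbs (pairStab G a b) (others a b) :=
      Finset.mem_image_of_mem _ he
    rw [hO, Finset.mem_singleton] at h1 h2
    rw [h2, ← h1]
    exact orb_self _ x
  obtain ⟨heb, hea⟩ := mem_others.1 he
  have hcardE : 3 * Nat.card (tri G a b e) = c * c := by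
    have h1 := card_orb_tri (G := G) a b e
    rw [hO, card_others T hab] at h1
    have h2 := T.card_pairStab hab
    rw [← h1] at h2
    exact Nat.eq_of_mul_eq_mul_left (show 0 < 3 * p - 2 by omega) (by linear_combination h2)
  have hEodd : ∀ g ∈ tri G a b e, Odd (orderOf g) := fun g hg => T.orderOf_odd hab (tri_le a b e hg)
  set X := gen3 (tri G a b e) with hX
  set Φ : Finset Ω := fixS X with hΦ
  have hXfix : ∀ g ∈ X, g • a = a ∧ g • b = b ∧ g • e = e :=
    fun g hg => mem_tri.1 (gen3_le _ hg)
  have haΦ : a ∈ Φ := mem_fixS.2 fun g hg => (hXfix g hg).1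
  have hbΦ : b ∈ Φ := mem_fixS.2 fun g hg => (hXfix g hg).2.1
  have heΦ : e ∈ Φ := mem_fixS.2 fun g hg => (hXfix g hg).2.2
  -- an element moving the triple into `Φ` stabilizes `Φ`
  have hkey : ∀ g : G, g • a ∈ Φ → g • b ∈ Φ → g • e ∈ Φ → g ∈ setStab Φ := by
    intro g h1 h2 h3
    have hle : X ≤ X.map (MulAut.conj g).toMonoidHom := by
      rw [hX, gen3_map, tri_map]
      refine (Subgroup.closure_le _).2 fun k hk => mem_gen3 ?_ hk.2
      have hkX : k ∈ X := mem_gen3 hk.1 hk.2
      exact mem_tri.2 ⟨mem_fixS.1 h1 k hkX, mem_fixS.1 h2 k hkX, mem_fixS.1 h3 k hkX⟩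
    exact mem_setStab_of_map_eq
      (Subgroup.eq_of_le_of_card_ge hle (by rw [card_map_conj])).symm
  have hmove : ∀ x y z : Ω, x ≠ y → z ≠ x → z ≠ y →
      ∃ g : G, g • a = x ∧ g • b = y ∧ g • e = z := by
    intro x y z hxy hzx hzy
    obtain ⟨g, hga, hgb⟩ := T.two a b x y hab hxy
    have hz : g⁻¹ • z ∈ others a b := by
      refine mem_others.2 ⟨fun e' => hzy ?_, fun e' => hzx ?_⟩
      · rw [← hgb, ← e', smul_inv_smul]
      · rw [← hga, ← e', smul_inv_smul]
    rw [← hO] at hz
    obtain ⟨d, hd, hde⟩ := mem_orb.1 hz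
    obtain ⟨hda, hdb⟩ := mem_pairStab.1 hd
    exact ⟨g * d, by rw [mul_smul, hda, hga], by rw [mul_smul, hdb, hgb],
      by rw [mul_smul, hde, smul_inv_smul]⟩
  set g₀ := Φ.card with hg₀
  have hg3 : 3 ≤ g₀ := by
    rw [hg₀, ← Finset.card_eq_three.2 ⟨a, b, e, hab, hea.symm, heb.symm, rfl⟩]
    refine Finset.card_le_card fun x hx => ?_
    simp only [Finset.mem_insert, Finset.mem_singleton] at hx
    rcases hx with rfl | rfl | rfl <;> assumption
  by_cases hX1 : X = ⊥
  · -- the stabilizer is a 3-group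
    have hpow : ∀ l : ℕ, l.Prime → l ∣ Nat.card (tri G a b e) → l = 3 := by
      intro l hl hld
      by_contra h3
      haveI := Fact.mk hl
      obtain ⟨y, hy⟩ := exists_prime_orderOf_dvd_card' (G := tri G a b e) l hld
      have hyo : orderOf (y : G) = l := by rw [Subgroup.orderOf_coe, hy]
      have hyX : (y : G) ∈ X := mem_gen3 y.2 (by
        rw [hyo]
        intro hd
        exact h3 ((Nat.prime_dvd_prime_iff_eq Nat.prime_three hl).1 hd).symm)
      rw [hX1, Subgroup.mem_bot] at hyX
      rw [hyX, orderOf_one] at hyo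
      exact hl.ne_one hyo.symm
    obtain ⟨i, hi⟩ : ∃ i, Nat.card (tri G a b e) = 3 ^ i :=
      ⟨_, Nat.eq_prime_pow_of_unique_prime_dvd Nat.card_pos.ne' (fun {l} hl hld => hpow l hl hld)⟩
    obtain ⟨j, -, hj⟩ := (Nat.dvd_prime_pow Nat.prime_three).1
      (show c ∣ 3 ^ (i + 1) by rw [pow_succ', ← hi, hcardE]; exact dvd_mul_right c c)
    obtain ⟨R⟩ : Nonempty (Sylow 3 G) := inferInstance
    have hcop : ¬ 3 ∣ p * (3 * p - 1) * (3 * p - 2) := by
      intro hd
      rcases Nat.prime_three.dvd_mul.1 hd with hd' | hd'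
      · rcases Nat.prime_three.dvd_mul.1 hd' with hd'' | hd''
        · have := (Nat.prime_dvd_prime_iff_eq Nat.prime_three T.prime).1 hd''; omega
        · omega
      · omega
    have hRc : Nat.card (R : Subgroup G) = c * c := by
      rw [R.card_eq_multiplicity, T.card, Nat.factorization_mul (by
          intro h0; exact hcop (h0 ▸ dvd_zero 3)) (by rw [hj]; positivity), Finsupp.add_apply,
        Nat.factorization_eq_zero_of_not_dvd hcop, zero_add, hj, ← pow_add,
        Nat.prime_three.factorization_pow, Finsupp.single_eq_same]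
    have hc1 : 1 < c := by have := T.cbig; omega
    haveI : Nontrivial (R : Subgroup G) := by
      rw [← Finite.one_lt_card_iff_nontrivial, hRc]
      nlinarith
    haveI := R.2.center_nontrivial
    obtain ⟨⟨y0, hy0⟩, hy01⟩ := exists_ne (1 : Subgroup.center (R : Subgroup G))
    have hy1 : (y0 : G) ≠ 1 := fun h => hy01 (Subtype.ext (Subtype.ext h))
    obtain ⟨m, hm⟩ := IsPGroup.iff_orderOf.1 R.2 y0
    rw [← Subgroup.orderOf_coe] at hm
    rcases m with _ | m
    · exact hy1 (orderOf_eq_one_iff.1 (by rw [hm, pow_zero]))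
    set y := (y0 : G) ^ (3 ^ m) with hy
    have hyo : orderOf y = 3 := by
      rw [hy, orderOf_pow_of_dvd (by positivity) (by rw [hm, pow_succ]; exact dvd_mul_right _ _),
        hm, pow_succ, Nat.mul_div_cancel_left _ (by positivity)]
    have hRy : (R : Subgroup G) ≤ Subgroup.centralizer ({y} : Set G) := by
      intro r hr
      rw [Subgroup.mem_centralizer_singleton_iff]
      exact (Commute.pow_right
        (congrArg Subtype.val (Subgroup.mem_center_iff.1 hy0 ⟨r, hr⟩) :) (3 ^ m)).eq
    have hd1 := (Subgroup.card_dvd_of_le hRy).trans (hpairs y hyo)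
    rw [hRc, show p * c * (3 * p - fx Ω y) = c * (p * (3 * p - fx Ω y)) by ring] at hd1
    have hcp : Nat.Coprime c p := by
      rw [hj, Nat.coprime_comm, T.prime.coprime_iff_not_dvd]
      intro hd
      have := (Nat.prime_dvd_prime_iff_eq T.prime Nat.prime_three).1 (T.prime.dvd_of_dvd_pow hd)
      omega
    have hd2 : c ∣ 3 * p - fx Ω y :=
      hcp.dvd_of_dvd_mul_left (Nat.dvd_of_mul_dvd_mul_left (by omega) hd1)
    have hylt : fx Ω y < 3 * p := by
      rw [← card_fixF, ← T.card_space]
      refine Finset.card_lt_univ_of_notMem (x := ?_) ?_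
      · exact Classical.epsilon (h := ⟨a⟩) fun x : Ω => y • x ≠ x
      · intro hm'
        have hex : ∃ x : Ω, y • x ≠ x := by
          by_contra hcon
          push Not at hcon
          have : y = 1 := eq_of_smul_eq_smul (α := Ω) fun x => by rw [hcon x, one_smul]
          rw [this, orderOf_one] at hyo
          omega
        exact Classical.epsilon_spec hex (mem_fixF.1 hm')
    have hcle : c ≤ 3 * p := (Nat.le_of_dvd (by omega) hd2).trans (Nat.sub_le _ _)
    have h8 : c % 8 = 1 ∨ c % 8 = 3 := by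
      rw [hj]
      clear * -
      induction j with
      | zero => left; rfl
      | succ j ih => rw [pow_succ]; omega
    have hmod : (p : ℤ) ∣ ((c : ℤ) - 1) * ((c : ℤ) + 1) := by
      rw [show ((c : ℤ) - 1) * ((c : ℤ) + 1) = c * c - 1 by ring]
      exact T.cmod
    have hcb := T.cbig
    rcases (Nat.prime_iff_prime_int.1 T.prime).dvd_mul.1 hmod with ⟨q, hq⟩ | ⟨q, hq⟩ <;>
    · have hq1 : (2 : ℤ) ≤ q := by nlinarith
      have hq3 : q ≤ 3 := by nlinarith
      interval_cases q <;> omega
  · -- long orbits off `Φ`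
    have hlt : g₀ < 3 * p := by
      rw [hg₀, ← T.card_space]
      rcases (Finset.card_le_univ Φ).eq_or_lt with hu | hu
      · exfalso
        refine hX1 ((Subgroup.eq_bot_iff_forall X).2 fun g hg => ?_)
        exact eq_of_smul_eq_smul (α := Ω) fun x => by
          rw [one_smul]
          exact mem_fixS.1 (show x ∈ Φ by rw [Finset.eq_univ_of_card Φ hu]; exact Finset.mem_univ x)
            g hg
      · exact hu
    have hlong : ∀ x : Ω, x ∉ Φ → 5 ≤ (orb (tri G a b e) x).card := by
      intro x hx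
      obtain ⟨g, ⟨hgE, hg3⟩, hgx⟩ : ∃ g, (g ∈ tri G a b e ∧ ¬ 3 ∣ orderOf g) ∧ g • x ≠ x := by
        by_contra hcon
        push Not at hcon
        exact hx (mem_fixS_iff_le.2 ((Subgroup.closure_le _).2 fun k hk => hcon k hk))
      have hodd := T.orb_odd hab (tri_le a b e) x
      have h1 : (orb (Subgroup.zpowers g) x).card ∣ orderOf g := by
        rw [← Nat.card_zpowers]
        exact Dvd.intro _ (card_orb_mul _ x)
      have h2 : (orb (Subgroup.zpowers g) x).card ≤ (orb (tri G a b e) x).card :=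
        Finset.card_le_card fun y hy => by
          obtain ⟨k, hk, rfl⟩ := mem_orb.1 hy
          exact mem_orb.2 ⟨k, Subgroup.zpowers_le.2 hgE hk, rfl⟩
      have h3 : (orb (Subgroup.zpowers g) x).card ≠ 1 := by
        intro h
        obtain ⟨z, hz⟩ := Finset.card_eq_one.1 h
        have e1 := orb_self (Subgroup.zpowers g) x
        have e2 : g • x ∈ orb (Subgroup.zpowers g) x :=
          mem_orb.2 ⟨g, Subgroup.mem_zpowers g, rfl⟩
        rw [hz, Finset.mem_singleton] at e1 e2
        exact hgx (e2.trans e1.symm)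
      have h4' : (orb (Subgroup.zpowers g) x).card ≠ 3 := fun h => hg3 (h ▸ h1)
      have h6 := three_le_of_odd (Odd.of_dvd_nat (hEodd g hgE) h1) h3
      obtain ⟨q, hq⟩ := hodd
      omega
    have hbig := orbs_bound (tri G a b e) Φ (r := 5) (by norm_num) hlong
    rw [T.card_space, ← hg₀] at hbig
    refine steiner_false h5 h4 hg3 hlt ?_ ?_ (by omega)
    all_goals
      have hL1o : orb (setStab Φ ⊓ pairStab G a b) e = (Φ.erase a).erase b := by
        ext x
        simp only [Finset.mem_erase]
        constructor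
        · intro hx
          obtain ⟨g, hg, rfl⟩ := mem_orb.1 hx
          obtain ⟨hg1, hg2⟩ := Subgroup.mem_inf.1 hg
          have := others_inv hg2 he
          exact ⟨(mem_others.1 this).1, (mem_others.1 this).2, (mem_setStab.1 hg1 e).2 heΦ⟩
        · rintro ⟨hxb, hxa, hxΦ⟩
          obtain ⟨g, hga, hgb, hge⟩ := hmove a b x hab hxa hxb
          exact mem_orb.2 ⟨g, Subgroup.mem_inf.2 ⟨hkey g (by rw [hga]; exact haΦ)
            (by rw [hgb]; exact hbΦ) (by rw [hge]; exact hxΦ),
            mem_pairStab.2 ⟨hga, hgb⟩⟩, hge⟩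
      have hL1c : (orb (setStab Φ ⊓ pairStab G a b) e).card = g₀ - 2 := by
        rw [hL1o, Finset.card_erase_of_mem (Finset.mem_erase.2 ⟨hab.symm, hbΦ⟩),
          Finset.card_erase_of_mem haΦ]
        omega
      have hst : pairStab G a b ⊓ stabilizer G e ≤ setStab Φ ⊓ pairStab G a b := by
        intro g hg
        obtain ⟨hg1, hg2, hg3⟩ := mem_tri.1 (show g ∈ tri G a b e from hg)
        exact Subgroup.mem_inf.2 ⟨hkey g (by rw [hg1]; exact haΦ) (by rw [hg2]; exact hbΦ)
          (by rw [hg3]; exact heΦ),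
          mem_pairStab.2 ⟨hg1, hg2⟩⟩
    · have := orb_card_dvd inf_le_right e hst
      rwa [hL1c, hO, card_others T hab] at this
    · set L2 := setStab Φ ⊓ stabilizer G a with hL2
      have hL2o : orb L2 b = Φ.erase a := by
        ext x
        simp only [Finset.mem_erase]
        constructor
        · intro hx
          obtain ⟨g, hg, rfl⟩ := mem_orb.1 hx
          obtain ⟨hg1, hg2⟩ := Subgroup.mem_inf.1 hg
          exact ⟨fun e' => hab (MulAction.injective g (e'.trans hg2.symm)).symm,
            (mem_setStab.1 hg1 b).2 hbΦ⟩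
        · rintro ⟨hxa, hxΦ⟩
          by_cases hxe : x = b
          · exact hxe ▸ orb_self _ _
          obtain ⟨g, hga, hgb, hge⟩ := hmove a x b hxa.symm hab.symm (Ne.symm hxe)
          exact mem_orb.2 ⟨g, Subgroup.mem_inf.2 ⟨hkey g (by rw [hga]; exact haΦ)
            (by rw [hgb]; exact hxΦ) (by rw [hge]; exact hbΦ), hga⟩,
            hgb⟩
      have h1 := card_orb_mul L2 b
      rw [hL2o, Finset.card_erase_of_mem haΦ, ← hg₀, hL2, inf_assoc] at h1
      have h2 := card_orb_mul (setStab Φ ⊓ pairStab G a b) e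
      rw [hL1c, show (setStab Φ ⊓ pairStab G a b) ⊓ stabilizer G e = tri G a b e from
        le_antisymm (inf_le_inf_right _ inf_le_right) (le_inf hst inf_le_right)] at h2
      have h3 := Subgroup.card_dvd_of_le (inf_le_right : setStab Φ ⊓ stabilizer G a ≤ stabilizer G a)
      rw [← h1, ← T.card_pairStab_mul hab, ← card_orb_tri a b e, hO, card_others T hab,
        show stabilizer G a ⊓ stabilizer G b = pairStab G a b from rfl, ← h2] at h3
      refine Nat.dvd_of_mul_dvd_mul_right (Nat.card_pos : 0 < Nat.card (tri G a b e)) ?_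
      rwa [mul_assoc, mul_assoc]

end CfsgLib.DegreeThreeP
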