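import Cfsg.Agent.DegreeThreeP.TwoTrans.Chars
import Cfsg.Agent.DegreeThreeP.TwoTrans.Triple
import Cfsg.Agent.DegreeThreeP.TwoTrans.Five

/-!
# Degree `3 p`: the case `1 + χ` with `p ≡ 3` modulo four does not occur
-/

set_option autoImplicit false
set_option linter.unusedSectionVars false
set_option linter.style.haveILetI false

namespace CfsgLib.DegreeThreeP

open MulAction

universe u v

variable {p : ℕ} [hpf : Fact p.Prime] {G : Type u} [Group G] [Fintype G] {Ω : Type v} [Fintype Ω]
  [MulAction G Ω] {P : Sylow p G} (h : Hyp p Ω P)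

include h

theorem Hyp.false_of_two_trans_three {χ : Cfsg.IrrCharacter G}
    {Y : Finset (Cfsg.IrrCharacter G)} (hE : Exc p (-1) (3 * p - 1) χ Y)
    (hπ : ∀ g : G, (fx Ω g : ℂ) = 1 + (χ : G → ℂ) g) (hp4 : p % 4 = 3) : False := by
  classical
  have h5 := h.five
  obtain ⟨x, t, hd⟩ := h.exists_dih
  obtain ⟨c, T, hC⟩ := h.exists_tt hE hπ hp4 hd
  haveI : Nontrivial Ω := Fintype.one_lt_card_iff_nontrivial.1 (by rw [T.card_space]; omega)
  obtain ⟨a, b, hab⟩ := exists_pair_ne Ω
  haveI : Fintype (pairStab G a b) := Fintype.ofFinite _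
  have hpairs : ∀ y : G, orderOf y = 3 →
      Nat.card (Subgroup.centralizer ({y} : Set G)) ∣ p * c * (3 * p - fx Ω y) := by
    intro y hy
    have hyreg : ¬ p ∣ orderOf y := by
      rw [hy]
      intro hd'
      have := Nat.le_of_dvd (by norm_num) hd'
      omega
    have hh := h.pairs_eq hE (by omega) hd.mem hd.ne (h.reg_two hd.invol) hyreg
    have hw : (χ : G → ℂ) t = 0 := by
      have := hπ t
      rw [h.fx_dih hd, if_neg (by omega)] at this
      push_cast at this
      linear_combination -this
    have hle : fx Ω y ≤ 3 * p := by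
      rw [← card_fixF, ← T.card_space]
      exact Finset.card_le_univ _
    set N := npairs t y x
    set Cy := Nat.card (Subgroup.centralizer ({y} : Set G))
    have hn : N * ((3 * p - 1) * c) * Cy * ((3 * p - 1) * (3 * p - 2)) =
        p * (3 * p - 1) * (3 * p - 2) * (c * c) * ((3 * p - 1) * (3 * p - fx Ω y)) := by
      have hch : (χ : G → ℂ) y = (fx Ω y : ℂ) - 1 := by linear_combination -(hπ y)
      rw [hw, hch, hC, T.card] at hh
      have h2 : ((N * ((3 * p - 1) * c) * Cy * ((3 * p - 1) * (3 * p - 2)) : ℕ) : ℂ) =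
          ((p * (3 * p - 1) * (3 * p - 2) * (c * c) * ((3 * p - 1) * (3 * p - fx Ω y)) : ℕ) : ℂ) := by
        simp only [Nat.cast_mul, Nat.cast_sub (show 1 ≤ 3 * p by omega),
          Nat.cast_sub (show 2 ≤ 3 * p by omega), Nat.cast_sub hle, Nat.cast_ofNat,
          Nat.cast_one] at hh ⊢
        push_cast at hh
        linear_combination hh
      exact_mod_cast h2
    refine Dvd.intro_left N ?_
    have hc0 : 0 < c := by have := T.cbig; omega
    refine Nat.eq_of_mul_eq_mul_left
      (show 0 < c * ((3 * p - 1) * ((3 * p - 1) * (3 * p - 2))) by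
        have h1 : 0 < 3 * p - 1 := by omega
        have h2 : 0 < 3 * p - 2 := by omega
        positivity) ?_
    linear_combination hn
  rcases h.square_bound hE hπ T hab with ⟨hM, hW⟩ | ⟨hM, hW⟩
  · exact T.false_three hab hM hW hpairs
  · exact T.false_five hab hM hW

end CfsgLib.DegreeThreeP
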