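import Cfsg.Agent.DegreeThreeP.Orbits

/-!
# Degree `3 p`, case `1 + χ`, `p ≡ 3` modulo four: the setting

The group is doubly transitive, every element of even order fixes exactly one point, the two-point
stabilizer has odd order `(3 p - 2) c² / 3` and `c ≥ 2 p - 1`.
-/

set_option autoImplicit false
set_option linter.unusedSectionVars false
set_option linter.style.haveILetI false

namespace CfsgLib.DegreeThreeP

open MulAction

universe u v

/-- The facts used about the doubly transitive group. -/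
structure TT (p c : ℕ) (G : Type u) [Group G] [Fintype G] (Ω : Type v) [Fintype Ω]
    [MulAction G Ω] : Prop where
  five : 5 ≤ p
  prime : p.Prime
  mod4 : p % 4 = 3
  faith : FaithfulSMul G Ω
  card_space : Fintype.card Ω = 3 * p
  two : ∀ a b a' b' : Ω, a ≠ b → a' ≠ b' → ∃ g : G, g • a = a' ∧ g • b = b'
  even_fix : ∀ g : G, 2 ∣ orderOf g → fx Ω g = 1
  codd : c % 2 = 1
  three : 3 ∣ c
  cbig : 2 * p ≤ c + 1
  cmod : (p : ℤ) ∣ (c : ℤ) * c - 1
  card : Nat.card G = p * (3 * p - 1) * (3 * p - 2) * (c * c)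

/-- The stabilizer of two points. -/
def pairStab (G : Type u) [Group G] {Ω : Type v} [MulAction G Ω] (a b : Ω) : Subgroup G :=
  stabilizer G a ⊓ stabilizer G b

theorem mem_pairStab {G : Type u} [Group G] {Ω : Type v} [MulAction G Ω] {a b : Ω} {g : G} :
    g ∈ pairStab G a b ↔ g • a = a ∧ g • b = b := by
  rw [pairStab, Subgroup.mem_inf, mem_stabilizer_iff, mem_stabilizer_iff]

section

variable {p : ℕ} [hpf : Fact p.Prime] {G : Type u} [Group G] [Fintype G] {Ω : Type v} [Fintype Ω]
  [MulAction G Ω] {P : Sylow p G} (h : Hyp p Ω P)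

include h

/-- Double transitivity. -/
theorem Hyp.two_transitive {χ : Cfsg.IrrCharacter G} (hχ : χ ≠ one G)
    (hπ : ∀ g : G, (fx Ω g : ℂ) = 1 + (χ : G → ℂ) g) (a b a' b' : Ω) (hab : a ≠ b)
    (hab' : a' ≠ b') : ∃ g : G, g • a = a' ∧ g • b = b' := by
  classical
  haveI := h.trans
  open CfsgLib.Characters in
  have h2 : Nat.card (orbitRel.Quotient G (Ω × Ω)) = 2 := by
    have hn := CfsgLib.Perm.PermChar.norm_perm (G := G) (Ω := Ω)
    have hperm : CfsgLib.Perm.PermChar.perm G Ω = (fun _ => (1 : ℂ)) + (χ : G → ℂ) := funext hπ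
    have hne1 : (χ : G → ℂ) ≠ fun _ => 1 := fun e => hχ (Subtype.ext e)
    rw [hperm] at hn
    simp only [classInner_add_left, classInner_add_right, classInner_isIrr_self isIrr_one,
      classInner_isIrr_self χ.2, classInner_isIrr_ne isIrr_one χ.2 hne1.symm,
      classInner_isIrr_ne χ.2 isIrr_one hne1] at hn
    norm_num at hn
    rw [Nat.card_eq_fintype_card]
    exact_mod_cast hn.symm
  letI := Fintype.ofFinite (orbitRel.Quotient G (Ω × Ω))
  have hd : ∀ x y : Ω, x ≠ y → (Quotient.mk _ (x, y) : orbitRel.Quotient G (Ω × Ω)) ≠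
      Quotient.mk _ (a, a) := by
    intro x y hxy e
    obtain ⟨g, hg⟩ := Quotient.exact e
    exact hxy ((congrArg Prod.fst hg).symm.trans (congrArg Prod.snd hg))
  have heq : (Quotient.mk _ (a', b') : orbitRel.Quotient G (Ω × Ω)) = Quotient.mk _ (a, b) := by
    by_contra hne
    have := Finset.card_le_univ ({Quotient.mk _ (a', b'), Quotient.mk _ (a, b),
      Quotient.mk _ (a, a)} : Finset (orbitRel.Quotient G (Ω × Ω)))
    rw [Finset.card_eq_three.2 ⟨_, _, _, hne, hd _ _ hab', hd _ _ hab, rfl⟩,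
      ← Nat.card_eq_fintype_card, h2] at this
    omega
  obtain ⟨g, hg⟩ := Quotient.exact heq
  exact ⟨g, congrArg Prod.fst hg, congrArg Prod.snd hg⟩

/-- Every element of even order fixes one point. -/
theorem Hyp.even_fix (h1 : ∀ u : G, orderOf u = 2 → fx Ω u = 1) {g : G} (hg : 2 ∣ orderOf g) :
    fx Ω g = 1 := by
  classical
  have hv := h1 (g ^ (orderOf g / 2)) (by
    rw [orderOf_pow_of_dvd (by have := Nat.le_of_dvd (orderOf_pos g) hg; omega)
      (Nat.div_dvd_of_dvd hg), Nat.div_div_self hg (orderOf_pos g).ne'])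
  rw [← card_fixF, Finset.card_eq_one] at hv
  obtain ⟨e, he⟩ := hv
  have hve : (g ^ (orderOf g / 2)) • e = e := mem_fixF.1 (by rw [he]; simp)
  have hge : g • e = e := by
    have : g • e ∈ fixF Ω (g ^ (orderOf g / 2)) := by
      rw [mem_fixF, ← mul_smul, ← pow_succ, pow_succ', mul_smul, hve]
    rw [he, Finset.mem_singleton] at this
    exact this
  rw [← card_fixF, Finset.card_eq_one]
  refine ⟨e, Finset.eq_singleton_iff_unique_mem.2 ⟨mem_fixF.2 hge, fun x hx => ?_⟩⟩
  have hgx : g ∈ stabilizer G x := mem_fixF.1 hx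
  have : x ∈ fixF Ω (g ^ (orderOf g / 2)) :=
    mem_fixF.2 (mem_stabilizer_iff.1 (pow_mem hgx _))
  rwa [he, Finset.mem_singleton] at this

/-- The setting holds. -/
theorem Hyp.exists_tt {χ : Cfsg.IrrCharacter G} {Y : Finset (Cfsg.IrrCharacter G)}
    (hE : Exc p (-1) (3 * p - 1) χ Y) (hπ : ∀ g : G, (fx Ω g : ℂ) = 1 + (χ : G → ℂ) g)
    (hp4 : p % 4 = 3) {x t : G} (hd : Dih P x t) :
    ∃ c : ℕ, TT p c G Ω ∧ Nat.card (Subgroup.centralizer ({t} : Set G)) = (3 * p - 1) * c := by
  have hp := hpf.out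
  have h5 := h.five
  obtain ⟨c, hodd, h3, hC, hG⟩ := h.two_trans_three hE hπ hp4 hd
  have hmod : (p : ℤ) ∣ (c : ℤ) * c - 1 := by
    have hs := card_sylow_modEq_one p G
    rw [Nat.modEq_iff_dvd] at hs
    have hidx := Subgroup.card_mul_index (Subgroup.normalizer ((P : Subgroup G) : Set G))
    rw [h.card_norm, hG] at hidx
    set n := Nat.card (Sylow p G) with hn
    have hnidx : n = (Subgroup.normalizer ((P : Subgroup G) : Set G)).index :=
      Sylow.card_eq_index_normalizer P
    rw [← hnidx] at hidx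
    have e : (3 * (p : ℤ) - 1) * (3 * p - 2) * (c * c) = 2 * n := by
      have : 2 * n = (3 * p - 1) * (3 * p - 2) * (c * c) :=
        Nat.eq_of_mul_eq_mul_left hp.pos (by linear_combination hidx)
      have h' : ((2 * n : ℕ) : ℤ) = (((3 * p - 1) * (3 * p - 2) * (c * c) : ℕ) : ℤ) := by rw [this]
      rw [Nat.cast_mul, Nat.cast_mul, Nat.cast_mul, Nat.cast_sub (by omega),
        Nat.cast_sub (by omega)] at h'
      push_cast at h'
      exact h'.symm
    obtain ⟨i, hi⟩ := hs
    push_cast at hi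
    have h2 : (p : ℤ) ∣ 2 * ((c : ℤ) * c - 1) :=
      ⟨-2 * i - 9 * (c * c) * p + 9 * (c * c), by linear_combination e - 2 * hi⟩
    rcases (Nat.prime_iff_prime_int.1 hp).dvd_mul.1 h2 with h' | h'
    · exfalso
      have := Int.le_of_dvd (by norm_num) h'
      omega
    · exact h'
  refine ⟨c, ⟨h5, hp, hp4, h.faith, by rw [← Nat.card_eq_fintype_card, h.card_space],
    h.two_transitive hE.ne hπ, fun g hg => h.even_fix (fun u hu => by
      rw [h.fx_involution hE (by omega) hu, if_neg (by omega)]) hg, hodd, h3, ?_, hmod, hG⟩, hC⟩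
  have hc3 : 3 ≤ c := Nat.le_of_dvd (by omega) h3
  have h' : (p : ℤ) ∣ ((c : ℤ) - 1) * ((c : ℤ) + 1) := by
    rw [show ((c : ℤ) - 1) * ((c : ℤ) + 1) = c * c - 1 by ring]
    exact hmod
  have key : ∀ d : ℤ, 0 < d → d % 2 = 0 → (p : ℤ) ∣ d → 2 * (p : ℤ) ≤ d := by
    intro d hd0 hde hd
    by_contra hlt
    obtain ⟨i, rfl⟩ := hd
    have hi1 : i < 2 := by nlinarith
    have hi0 : 0 < i := by nlinarith
    obtain rfl : i = 1 := by omega
    omega
  rcases (Nat.prime_iff_prime_int.1 hp).dvd_mul.1 h' with h'' | h''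
  · have := key _ (by omega) (by omega) h''
    omega
  · have := key _ (by omega) (by omega) h''
    omega

end

variable {p c : ℕ} {G : Type u} [Group G] [Fintype G] {Ω : Type v} [Fintype Ω] [MulAction G Ω]

theorem TT.pretransitive (T : TT p c G Ω) : IsPretransitive G Ω := by
  refine ⟨fun x y => ?_⟩
  haveI : Nontrivial Ω := Fintype.one_lt_card_iff_nontrivial.1 (by
    rw [T.card_space]; have := T.five; omega)
  obtain ⟨x', hx'⟩ := exists_ne x
  obtain ⟨y', hy'⟩ := exists_ne y
  obtain ⟨g, hg, -⟩ := T.two x x' y y' hx'.symm hy'.symm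
  exact ⟨g, hg⟩

theorem TT.orb_stab (T : TT p c G Ω) [DecidableEq Ω] {a b : Ω} (hab : a ≠ b) :
    orb (stabilizer G a) b = Finset.univ.erase a := by
  ext y
  simp only [mem_orb, Finset.mem_erase, Finset.mem_univ, and_true]
  constructor
  · rintro ⟨g, hg, rfl⟩ e
    exact hab (MulAction.injective g (e.trans (mem_stabilizer_iff.1 hg).symm)).symm
  · intro hy
    obtain ⟨g, hga, hgb⟩ := T.two a b a y hab (Ne.symm hy)
    exact ⟨g, mem_stabilizer_iff.2 hga, hgb⟩

theorem TT.card_stab (T : TT p c G Ω) (a : Ω) :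
    3 * Nat.card (stabilizer G a) = (3 * p - 1) * (3 * p - 2) * (c * c) := by
  haveI := T.pretransitive
  have h1 := Subgroup.card_mul_index (stabilizer G a)
  rw [index_stabilizer_of_transitive, Nat.card_eq_fintype_card (α := Ω), T.card_space, T.card] at h1
  exact Nat.eq_of_mul_eq_mul_left T.prime.pos (by linear_combination h1)

theorem TT.card_pairStab_mul (T : TT p c G Ω) {a b : Ω} (hab : a ≠ b) :
    (3 * p - 1) * Nat.card (pairStab G a b) = Nat.card (stabilizer G a) := by
  classical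
  have := card_orb_mul (stabilizer G a) b
  rwa [T.orb_stab hab, Finset.card_erase_of_mem (Finset.mem_univ a), Finset.card_univ, T.card_space]
    at this

theorem TT.card_pairStab (T : TT p c G Ω) {a b : Ω} (hab : a ≠ b) :
    3 * Nat.card (pairStab G a b) = (3 * p - 2) * (c * c) := by
  have h1 := T.card_pairStab_mul hab
  have h2 := T.card_stab a
  have := T.five
  refine Nat.eq_of_mul_eq_mul_left (show 0 < 3 * p - 1 by omega) ?_
  rw [← h1] at h2
  linear_combination h2

theorem TT.total (T : TT p c G Ω) {a b : Ω} (hab : a ≠ b) :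
    3 * p * ((3 * p - 1) * Nat.card (pairStab G a b)) = Nat.card G := by
  haveI := T.pretransitive
  have h1 := Subgroup.card_mul_index (stabilizer G a)
  rw [index_stabilizer_of_transitive, Nat.card_eq_fintype_card (α := Ω), T.card_space,
    ← T.card_pairStab_mul hab] at h1
  rw [← h1]
  ring

theorem TT.pairStab_odd (T : TT p c G Ω) {a b : Ω} (hab : a ≠ b) :
    Odd (Nat.card (pairStab G a b)) := by
  have h := T.card_pairStab hab
  have h1 := T.mod4
  have h2 := T.codd
  have hodd : Odd ((3 * p - 2) * (c * c)) :=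
    (Nat.odd_iff.2 (by omega)).mul ((Nat.odd_iff.2 h2).mul (Nat.odd_iff.2 h2))
  rw [← h] at hodd
  exact (Nat.odd_mul.1 hodd).2

theorem TT.orderOf_odd (T : TT p c G Ω) {a b : Ω} (hab : a ≠ b) {g : G} (hg : g ∈ pairStab G a b) :
    Odd (orderOf g) :=
  Odd.of_dvd_nat (T.pairStab_odd hab) (Subgroup.orderOf_dvd_natCard _ hg)

theorem TT.orb_odd (T : TT p c G Ω) {a b : Ω} (hab : a ≠ b) {H : Subgroup G}
    (hH : H ≤ pairStab G a b) (x : Ω) : Odd (orb H x).card :=
  Odd.of_dvd_nat (T.pairStab_odd hab)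
    ((Dvd.intro _ (card_orb_mul H x)).trans (Subgroup.card_dvd_of_le hH))

theorem three_le_of_odd {n : ℕ} (h : Odd n) (h1 : n ≠ 1) : 3 ≤ n := by
  rcases h with ⟨j, rfl⟩
  omega

/-- The bound for the orbits of a subgroup of a two-point stabilizer. -/
theorem TT.orbs_three (T : TT p c G Ω) {a b : Ω} (hab : a ≠ b) {H : Subgroup G}
    (hH : H ≤ pairStab G a b) :
    3 * (orbs H (Finset.univ : Finset Ω)).card ≤ 3 * p + 2 * (fixS H : Finset Ω).card := by
  classical
  have := orbs_bound H (fixS H : Finset Ω) (r := 3) (by norm_num) fun x hx => ?_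
  · rwa [T.card_space] at this
  · refine three_le_of_odd (T.orb_odd hab hH x) fun h1 => hx (mem_fixS.2 fun g hg => ?_)
    obtain ⟨y, hy⟩ := Finset.card_eq_one.1 h1
    have h2 := orb_self H x
    have h3 : g • x ∈ orb H x := mem_orb.2 ⟨g, hg, rfl⟩
    rw [hy, Finset.mem_singleton] at h2 h3
    rw [h3, h2]

end CfsgLib.DegreeThreeP
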