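import Cfsg.Agent.DegreeThreeP.TwoTrans.Basic

/-!
# Degree `3 p`, case `1 + χ`, `p ≡ 3` modulo four: the square of the permutation character

The number of orbits of a two-point stabilizer is three or five, and the multiplicities of the
principal block in the exterior and symmetric squares bound `∑ π (π - 1)` over the stabilizer from
below.
-/

set_option autoImplicit false
set_option linter.unusedSectionVars false
set_option linter.style.haveILetI false

namespace CfsgLib.DegreeThreeP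

open MulAction CfsgLib.Characters
open scoped ComplexConjugate

universe u v

variable {p c : ℕ} {G : Type u} [Group G] [Fintype G] {Ω : Type v} [Fintype Ω] [MulAction G Ω]

open scoped Classical in
/-- The number of points in two-cycles. -/
noncomputable def sw (Ω : Type v) [Fintype Ω] [MulAction G Ω] (g : G) : ℕ :=
  (Finset.univ.filter fun x : Ω => g • x ≠ x ∧ g • g • x = x).card

theorem fx_sq (g : G) : fx Ω (g * g) = fx Ω g + sw Ω g := by
  classical
  rw [← card_fixF, ← card_fixF, sw, ← Finset.card_union_of_disjoint]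
  · congr 1
    ext x
    simp only [Finset.mem_union, mem_fixF, Finset.mem_filter, Finset.mem_univ, true_and, mul_smul]
    constructor
    · intro hx
      by_cases h : g • x = x
      · exact Or.inl h
      · exact Or.inr ⟨h, hx⟩
    · rintro (h | ⟨-, h⟩)
      · rw [h, h]
      · exact h
  · rw [Finset.disjoint_left]
    intro x hx hx'
    exact (Finset.mem_filter.1 hx').2.1 (mem_fixF.1 hx)

theorem TT.fx_of_sw (T : TT p c G Ω) {g : G} (hg : sw Ω g ≠ 0) : fx Ω g = 1 := by
  classical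
  obtain ⟨x, hx⟩ := Finset.card_ne_zero.1 hg
  obtain ⟨h1, h2⟩ := (Finset.mem_filter.1 hx).2
  refine T.even_fix g ?_
  by_contra ho
  refine h1 ?_
  have hfix : g ^ 2 ∈ stabilizer G x := by rw [mem_stabilizer_iff, pow_two, mul_smul, h2]
  have h3 : g ^ (2 * (orderOf g / 2)) • x = x := by
    rw [pow_mul]; exact mem_stabilizer_iff.1 (pow_mem hfix _)
  have hg1 : g ^ (2 * (orderOf g / 2) + 1) = 1 := by
    rw [show 2 * (orderOf g / 2) + 1 = orderOf g by omega, pow_orderOf_eq_one]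
  rw [pow_succ', ] at hg1
  calc g • x = g • g ^ (2 * (orderOf g / 2)) • x := by rw [h3]
    _ = x := by rw [← mul_smul, hg1, one_smul]

theorem TT.card_map (T : TT p c G Ω) [DecidableEq Ω] {a b a' b' : Ω} (hab : a ≠ b)
    (hab' : a' ≠ b') : (Finset.univ.filter fun g : G => g • a = a' ∧ g • b = b').card =
      Nat.card (pairStab G a b) := by
  obtain ⟨g₀, h1, h2⟩ := T.two a b a' b' hab hab'
  rw [← Fintype.card_subtype, ← Nat.card_eq_fintype_card]
  refine Nat.card_congr
    { toFun := fun g => ⟨g₀⁻¹ * g.1, mem_pairStab.2 ?_⟩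
      invFun := fun d => ⟨g₀ * d.1, ?_⟩
      left_inv := fun g => Subtype.ext (mul_inv_cancel_left _ _)
      right_inv := fun d => Subtype.ext (inv_mul_cancel_left _ _) }
  · simp only [mul_smul, g.2.1, g.2.2, inv_smul_eq_iff]
    exact ⟨h1.symm, h2.symm⟩
  · obtain ⟨e1, e2⟩ := mem_pairStab.1 d.2
    simp [mul_smul, e1, e2, h1, h2]

/-- Double counting over ordered pairs of fixed points. -/
theorem TT.sum_pairs (T : TT p c G Ω) {a b : Ω} (hab : a ≠ b) [Fintype (pairStab G a b)]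
    (F : G → ℕ) (hF : ∀ g k : G, F (k * g * k⁻¹) = F g) :
    ∑ g : G, fx Ω g * (fx Ω g - 1) * F g =
      3 * p * (3 * p - 1) * ∑ d : pairStab G a b, F d := by
  classical
  have h1 : ∀ g : G, fx Ω g * (fx Ω g - 1) * F g =
      ∑ q ∈ (Finset.univ : Finset Ω).offDiag, if g • q.1 = q.1 ∧ g • q.2 = q.2 then F g else 0 := by
    intro g
    rw [← Finset.sum_filter, Finset.sum_const, smul_eq_mul]
    congr 1
    rw [show ((Finset.univ : Finset Ω).offDiag.filter fun q => g • q.1 = q.1 ∧ g • q.2 = q.2) =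
      (fixF Ω g).offDiag by
        ext q
        simp only [Finset.mem_filter, Finset.mem_offDiag, Finset.mem_univ, true_and, mem_fixF]
        tauto, Finset.offDiag_card, card_fixF, Nat.mul_sub_one]
  rw [Finset.sum_congr rfl fun g _ => h1 g, Finset.sum_comm]
  rw [Finset.sum_congr rfl (g := fun _ => ∑ d : pairStab G a b, F d) fun q hq => ?_,
    Finset.sum_const, Finset.offDiag_card, Finset.card_univ, T.card_space, smul_eq_mul,
    Nat.mul_sub_one]
  obtain ⟨g₀, e1, e2⟩ := T.two a b q.1 q.2 hab (Finset.mem_offDiag.1 hq).2.2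
  rw [← Finset.sum_filter]
  refine Finset.sum_bij' (fun g hg => ⟨g₀⁻¹ * g * g₀, mem_pairStab.2 ?_⟩)
    (fun d _ => g₀ * d.1 * g₀⁻¹) (fun _ _ => Finset.mem_univ _) ?_ (fun g _ => by group)
    (fun d _ => Subtype.ext (by group)) (fun g _ => ?_)
  · obtain ⟨h1', h2'⟩ := (Finset.mem_filter.1 hg).2
    rw [mul_smul, mul_smul, mul_smul, mul_smul, e1, e2, h1', h2', inv_smul_eq_iff,
      inv_smul_eq_iff]
    exact ⟨e1.symm, e2.symm⟩
  · intro d _
    obtain ⟨d1, d2⟩ := mem_pairStab.1 d.2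
    refine Finset.mem_filter.2 ⟨Finset.mem_univ _, ?_, ?_⟩
    · rw [← e1, mul_smul, mul_smul, inv_smul_smul, d1]
    · rw [← e2, mul_smul, mul_smul, inv_smul_smul, d2]
  · have := hF g g₀⁻¹
    rw [inv_inv] at this
    exact this.symm

theorem fx_conj (g k : G) : fx Ω (k * g * k⁻¹) = fx Ω g :=
  (Nat.card_congr
    { toFun := fun x : fixedBy Ω g => ⟨k • x.1, by
        show (k * g * k⁻¹) • (k • x.1) = k • x.1
        rw [mul_smul, mul_smul, inv_smul_smul, show g • x.1 = x.1 from x.2]⟩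
      invFun := fun x => ⟨k⁻¹ • x.1, by
        show g • (k⁻¹ • x.1) = k⁻¹ • x.1
        have hb : k • g • k⁻¹ • x.1 = x.1 := by
          rw [← mul_smul, ← mul_smul]; exact x.2
        exact eq_inv_smul_iff.2 hb⟩
      left_inv := fun x => Subtype.ext (inv_smul_smul k x.1)
      right_inv := fun x => Subtype.ext (smul_inv_smul k x.1) }).symm

/-- The sums over the group. -/
theorem TT.moments (T : TT p c G Ω) {a b : Ω} (hab : a ≠ b) [Fintype (pairStab G a b)] :
    (∑ g : G, fx Ω g = Nat.card G) ∧ (∑ g : G, fx Ω g * fx Ω g = 2 * Nat.card G) ∧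
    (∑ g : G, fx Ω g * fx Ω g * fx Ω g =
      Nat.card G * ((orbs (pairStab G a b) (Finset.univ : Finset Ω)).card + 2)) ∧
    (∑ g : G, sw Ω g = Nat.card G) ∧ (∑ g : G, sw Ω g * fx Ω g = Nat.card G) := by
  classical
  haveI := T.pretransitive
  have htot := T.total hab
  set n := Nat.card (pairStab G a b)
  have e1 : ∑ g : G, fx Ω g = Nat.card G := by
    have h := sum_fix (Ω := Ω) (⊤ : Subgroup G)
    have ho : orbs (⊤ : Subgroup G) (Finset.univ : Finset Ω) = {Finset.univ} := by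
      refine Finset.eq_singleton_iff_unique_mem.2 ⟨Finset.mem_image.2 ⟨a, Finset.mem_univ _, ?_⟩, ?_⟩
      · refine Finset.eq_univ_iff_forall.2 fun y => mem_orb.2 ?_
        obtain ⟨g, hg⟩ := MulAction.exists_smul_eq G a y
        exact ⟨g, trivial, hg⟩
      · intro O hO
        obtain ⟨x, -, rfl⟩ := Finset.mem_image.1 hO
        refine Finset.eq_univ_iff_forall.2 fun y => mem_orb.2 ?_
        obtain ⟨g, hg⟩ := MulAction.exists_smul_eq G x y
        exact ⟨g, trivial, hg⟩
    rw [ho, Finset.card_singleton, one_mul, Subgroup.card_top] at h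
    rw [← h]
    exact Fintype.sum_equiv Subgroup.topEquiv.symm.toEquiv _ _ fun _ => rfl
  have e0 : ∑ g : G, fx Ω g * (fx Ω g - 1) = Nat.card G := by
    have h := T.sum_pairs hab (fun _ => 1) fun _ _ => rfl
    simp only [mul_one, Finset.sum_const, Finset.card_univ, smul_eq_mul] at h
    rw [h, ← Nat.card_eq_fintype_card, ← htot]
    ring
  have hsplit : ∀ k : ℕ, k * (k - 1) + k = k * k := fun k => by
    rcases k with _ | k
    · rfl
    · rw [Nat.add_sub_cancel]; ring
  have e2 : ∑ g : G, fx Ω g * fx Ω g = 2 * Nat.card G := by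
    rw [← Finset.sum_congr rfl fun g _ => hsplit (fx Ω g), Finset.sum_add_distrib, e0, e1]
    ring
  have e3 : ∑ g : G, fx Ω g * fx Ω g * fx Ω g =
      Nat.card G * ((orbs (pairStab G a b) (Finset.univ : Finset Ω)).card + 2) := by
    rw [Finset.sum_congr rfl (g := fun g => fx Ω g * (fx Ω g - 1) * fx Ω g + fx Ω g * fx Ω g)
      fun g _ => by rw [← Nat.add_mul, hsplit], Finset.sum_add_distrib, e2,
      T.sum_pairs hab (fun g => fx Ω g) fun g k => fx_conj g k, sum_fix (pairStab G a b), ← htot]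
    ring
  have hsw : ∀ g : G, sw Ω g * fx Ω g = sw Ω g := by
    intro g
    rcases eq_or_ne (sw Ω g) 0 with h | h
    · rw [h, zero_mul]
    · rw [T.fx_of_sw h, mul_one]
  have e4 : ∑ g : G, sw Ω g = Nat.card G := by
    simp only [sw, Finset.card_filter]
    rw [Finset.sum_comm]
    have hx : ∀ x : Ω, (∑ g : G, if g • x ≠ x ∧ g • g • x = x then 1 else 0) =
        (3 * p - 1) * n := by
      intro x
      rw [← Finset.card_filter, Finset.card_eq_sum_card_fiberwise
        (f := fun g : G => g • x) (t := Finset.univ.erase x) (fun g hg =>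
          Finset.mem_erase.2 ⟨(Finset.mem_filter.1 hg).2.1, Finset.mem_univ _⟩),
        Finset.sum_congr rfl (g := fun _ => n) fun y hy => ?_, Finset.sum_const, smul_eq_mul,
        Finset.card_erase_of_mem (Finset.mem_univ x), Finset.card_univ, T.card_space]
      have hxy : x ≠ y := (Finset.ne_of_mem_erase hy).symm
      have hn' : Nat.card (pairStab G x y) = n :=
        Nat.eq_of_mul_eq_mul_left three_pos
          ((T.card_pairStab hxy).trans (T.card_pairStab hab).symm)
      rw [← hn', ← T.card_map (a' := y) (b' := x) hxy hxy.symm]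
      congr 1
      ext g
      simp only [Finset.mem_filter, Finset.mem_univ, true_and]
      constructor
      · rintro ⟨⟨-, h2⟩, h3⟩
        exact ⟨h3, by rwa [h3] at h2⟩
      · rintro ⟨h3, h4⟩
        exact ⟨⟨by rw [h3]; exact hxy.symm, by rw [h3, h4]⟩, h3⟩
    rw [Finset.sum_congr rfl fun x _ => hx x, Finset.sum_const, Finset.card_univ, T.card_space,
      smul_eq_mul, htot]
  exact ⟨e1, e2, e3, e4, by rw [Finset.sum_congr rfl fun g _ => hsw g, e4]⟩

theorem inner_eq_of_sum {θ ψ : G → ℂ} {k : ℂ} (hψ : ∀ g, conj (ψ g) = ψ g)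
    (h : ∑ g, θ g * ψ g = (Nat.card G : ℂ) * k) : Cfsg.classInner θ ψ = k := by
  rw [Cfsg.classInner, Finset.sum_congr rfl fun g _ => by rw [hψ g], h, ← mul_assoc,
    inv_mul_cancel₀ natCard_ne_zero, one_mul]

theorem sum_of_inner_eq {θ ψ : G → ℂ} {k : ℂ} (hψ : ∀ g, conj (ψ g) = ψ g)
    (h : Cfsg.classInner θ ψ = k) : ∑ g, θ g * ψ g = (Nat.card G : ℂ) * k := by
  rw [← h, Cfsg.classInner, ← mul_assoc, mul_inv_cancel₀ natCard_ne_zero, one_mul]
  exact Finset.sum_congr rfl fun g _ => by rw [hψ g]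

section

variable [hpf : Fact p.Prime] {P : Sylow p G} (h : Hyp p Ω P) {χ : Cfsg.IrrCharacter G}
  {Y : Finset (Cfsg.IrrCharacter G)} (hE : Exc p (-1) (3 * p - 1) χ Y)
  (hπ : ∀ g : G, (fx Ω g : ℂ) = 1 + (χ : G → ℂ) g) (T : TT p c G Ω)

include h hE hπ T

/-- The orbit number and the lower bound. -/
theorem Hyp.square_bound {a b : Ω} (hab : a ≠ b) [Fintype (pairStab G a b)] :
    ((orbs (pairStab G a b) (Finset.univ : Finset Ω)).card = 3 ∧
        Nat.card (pairStab G a b) * (p + 3) ≤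
          ∑ d : pairStab G a b, fx Ω (d : G) * (fx Ω (d : G) - 1)) ∨
      ((orbs (pairStab G a b) (Finset.univ : Finset Ω)).card = 5 ∧
        Nat.card (pairStab G a b) * (6 * p + 10) ≤
          ∑ d : pairStab G a b, fx Ω (d : G) * (fx Ω (d : G) - 1)) := by
  classical
  have hp5 := T.five
  obtain ⟨e1, e2, e3, e4, e5⟩ := T.moments hab
  set M := (orbs (pairStab G a b) (Finset.univ : Finset Ω)).card
  have hχ : ∀ g, (χ : G → ℂ) g = (fx Ω g : ℂ) - 1 := fun g => by linear_combination -(hπ g)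
  have hχreal : ∀ g, conj ((χ : G → ℂ) g) = (χ : G → ℂ) g := fun g => by
    rw [hχ g, map_sub, map_natCast, map_one]
  let Λ : G → ℂ := fun g => ((fx Ω g : ℂ) * fx Ω g - (fx Ω (g * g) : ℂ)) / 2
  let S : G → ℂ := fun g => ((fx Ω g : ℂ) * fx Ω g + (fx Ω (g * g) : ℂ)) / 2
  have hΛc : Cfsg.IsCharacter G Λ :=
    CfsgLib.SmallValue.isCharacter_alt (CfsgLib.Perm.PermChar.isCharacter_perm (G := G) (Ω := Ω))
  have hSc : Cfsg.IsCharacter G S :=
    CfsgLib.SmallValue.isCharacter_sym (CfsgLib.Perm.PermChar.isCharacter_perm (G := G) (Ω := Ω))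
  have hΛsing : ∀ g : G, p ∣ orderOf g → Λ g = 0 ∧ S g = 0 := by
    intro g hg
    have h0 : fx Ω (g * g) = 0 := by
      refine h.fx_singular ?_
      rw [← pow_two, (Nat.Coprime.orderOf_pow (?_ : Nat.Coprime (orderOf g) 2) :)]
      · exact hg
      · rw [Nat.coprime_comm, Nat.prime_two.coprime_iff_not_dvd]
        intro h2
        have h1 := T.even_fix g h2
        rw [h.fx_singular hg] at h1
        omega
    simp [Λ, S, h.fx_singular hg, h0]
  choose l hl using fun ψ : Cfsg.IrrCharacter G => classInner_character_irr hΛc ψ.2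
  choose s hs using fun ψ : Cfsg.IrrCharacter G => classInner_character_irr hSc ψ.2
  -- the sums
  have c1 : ∑ g : G, (fx Ω g : ℂ) = Nat.card G := by exact_mod_cast e1
  have c2 : ∑ g : G, (fx Ω g : ℂ) * fx Ω g = 2 * Nat.card G := by exact_mod_cast e2
  have c3 : ∑ g : G, (fx Ω g : ℂ) * fx Ω g * fx Ω g = Nat.card G * ((M : ℂ) + 2) := by
    exact_mod_cast e3
  have c4 : ∑ g : G, (sw Ω g : ℂ) = Nat.card G := by exact_mod_cast e4
  have c5 : ∑ g : G, (sw Ω g : ℂ) * fx Ω g = Nat.card G := by exact_mod_cast e5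
  have hsq : ∀ g : G, (fx Ω (g * g) : ℂ) = fx Ω g + sw Ω g := fun g => by
    rw [fx_sq, Nat.cast_add]
  have hΛ1 : ∑ g : G, Λ g * 1 = Nat.card G * 0 := by
    simp only [Λ, hsq, mul_one, ← Finset.sum_div, Finset.sum_sub_distrib, Finset.sum_add_distrib,
      c1, c2, c4]
    ring
  have hS1 : ∑ g : G, S g * 1 = Nat.card G * 2 := by
    simp only [S, hsq, mul_one, ← Finset.sum_div, Finset.sum_add_distrib, c1, c2, c4]
    ring
  have hΛπ : ∑ g : G, Λ g * (fx Ω g : ℂ) = Nat.card G * (((M : ℂ) - 1) / 2) := by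
    simp only [Λ, hsq, div_mul_eq_mul_div, sub_mul, add_mul, ← Finset.sum_div,
      Finset.sum_sub_distrib, Finset.sum_add_distrib, c2, c3, c5]
    ring
  have hSπ : ∑ g : G, S g * (fx Ω g : ℂ) = Nat.card G * (((M : ℂ) + 5) / 2) := by
    simp only [S, hsq, div_mul_eq_mul_div, add_mul, ← Finset.sum_div, Finset.sum_add_distrib,
      c2, c3, c5]
    ring
  have hmult : ∀ θ : G → ℂ, ∀ {v v' : ℂ}, ∑ g : G, θ g * 1 = Nat.card G * v' →
      ∑ g : G, θ g * (fx Ω g : ℂ) = Nat.card G * v →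
      (∀ g : G, p ∣ orderOf g → θ g = 0) →
      Cfsg.classInner θ (χ : G → ℂ) = v - v' ∧
        ∀ ψ ∈ Y, Cfsg.classInner θ (ψ : G → ℂ) = v - v' - v' := by
    intro θ v v' h1 h2 h0
    have hc : ∑ g : G, θ g * (χ : G → ℂ) g = Nat.card G * (v - v') := by
      rw [Finset.sum_congr rfl fun g _ => by rw [hχ g, mul_sub], Finset.sum_sub_distrib, h1, h2]
      ring
    refine ⟨inner_eq_of_sum hχreal hc, fun ψ hψ => ?_⟩
    rw [Cfsg.classInner, Finset.sum_congr rfl (g := fun g => θ g * (χ : G → ℂ) g - θ g * 1)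
      fun g _ => ?_, Finset.sum_sub_distrib, hc, h1, ← mul_sub, ← mul_assoc,
      inv_mul_cancel₀ natCard_ne_zero, one_mul]
    by_cases hg : p ∣ orderOf g
    · rw [h0 g hg]; ring
    · rw [hE.exc ψ hψ g hg, map_add, hχreal]
      push_cast
      rw [map_neg, map_one]
      ring
  obtain ⟨hΛχ, hΛθ⟩ := hmult Λ hΛ1 hΛπ fun g hg => (hΛsing g hg).1
  obtain ⟨hSχ, hSθ⟩ := hmult S hS1 hSπ fun g hg => (hΛsing g hg).2
  set L := l χ with hL
  have hM : M = 2 * L + 1 := by
    have := hΛχ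
    rw [hl χ] at this
    have h2 : ((M : ℕ) : ℂ) = ((2 * L + 1 : ℕ) : ℂ) := by
      push_cast
      linear_combination -2 * this
    exact_mod_cast h2
  have hlY : ∀ ψ ∈ Y, l ψ = L := by
    intro ψ hψ
    have := hΛθ ψ hψ
    rw [hl ψ, hM] at this
    have h2 : ((l ψ : ℕ) : ℂ) = ((L : ℕ) : ℂ) := by
      rw [this]; push_cast; ring
    exact_mod_cast h2
  have hsχ : s χ = L + 1 := by
    have := hSχ
    rw [hs χ, hM] at this
    have h2 : ((s χ : ℕ) : ℂ) = ((L + 1 : ℕ) : ℂ) := by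
      rw [this]; push_cast; ring
    exact_mod_cast h2
  have hsY : ∀ ψ ∈ Y, s ψ + 1 = L := by
    intro ψ hψ
    have := hSθ ψ hψ
    rw [hs ψ, hM] at this
    have h2 : ((s ψ + 1 : ℕ) : ℂ) = ((L : ℕ) : ℂ) := by
      push_cast
      rw [this]; push_cast; ring
    exact_mod_cast h2
  set y := Y.card with hy
  have hycard : 2 * y + 1 = p := hE.card
  have hsub : ∀ F : Cfsg.IrrCharacter G → ℕ, F χ + ∑ ψ ∈ Y, F ψ ≤ ∑ ψ, F ψ := by
    intro F
    rw [← Finset.sum_insert (s := Y) hE.chi_notMem]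
    exact Finset.sum_le_sum_of_subset (Finset.subset_univ _)
  -- the degree bounds `L`
  have hL2 : L ≤ 2 := by
    choose d hd0 hd hdd _hdg using fun ψ : Cfsg.IrrCharacter G =>
      CfsgLib.ClassPairs.exists_irr_degree ψ
    have h1 := congrFun (character_expansion hΛc) 1
    simp only [hl, hd, Finset.sum_apply, Pi.smul_apply, smul_eq_mul] at h1
    have hf1 : fx Ω (1 : G) = 3 * p := by
      rw [← card_fixF, show fixF Ω (1 : G) = Finset.univ from
        Finset.eq_univ_iff_forall.2 fun x => mem_fixF.2 (one_smul G x), Finset.card_univ,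
        T.card_space]
    have hΛ1' : 2 * ∑ ψ, l ψ * d ψ + 3 * p = 3 * p * (3 * p) := by
      have e : ((2 * ∑ ψ, l ψ * d ψ + 3 * p : ℕ) : ℂ) = ((3 * p * (3 * p) : ℕ) : ℂ) := by
        push_cast
        rw [← h1]
        simp only [Λ, mul_one, hf1]
        push_cast
        ring
      exact_mod_cast e
    have hdχ : d χ = 3 * p - 1 := by
      have := hE.degree
      rw [hd χ] at this
      exact_mod_cast this
    have hdY : ∀ ψ ∈ Y, d ψ = 3 * p - 2 := by
      intro ψ hψ
      have := hE.exc ψ hψ 1 (by rw [orderOf_one]; exact hpf.out.not_dvd_one)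
      rw [hd ψ, hE.degree] at this
      have h2 : ((d ψ + 1 : ℕ) : ℂ) = ((3 * p - 1 : ℕ) : ℂ) := by
        push_cast
        rw [this]; ring
      have h3 : d ψ + 1 = 3 * p - 1 := by exact_mod_cast h2
      omega
    have h2 := hsub fun ψ => l ψ * d ψ
    rw [Finset.sum_congr rfl (s₁ := Y) (g := fun _ => L * (3 * p - 2))
      (fun ψ hψ => by rw [hlY ψ hψ, hdY ψ hψ]), Finset.sum_const, smul_eq_mul, ← hL, hdχ,
      ← hy] at h2
    by_contra h3
    have h4 : 3 * ((3 * p - 1) + y * (3 * p - 2)) ≤ L * ((3 * p - 1) + y * (3 * p - 2)) :=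
      Nat.mul_le_mul_right _ (by omega)
    have h5 : L * ((3 * p - 1) + y * (3 * p - 2)) ≤ ∑ ψ, l ψ * d ψ := le_trans (le_of_eq (by ring)) h2
    have h6 : 6 * ((3 * p - 1) + y * (3 * p - 2)) + 3 * p ≤ 3 * p * (3 * p) := by omega
    zify [show 1 ≤ 3 * p by omega, show 2 ≤ 3 * p by omega] at h6
    have h7 : (p : ℤ) = 2 * y + 1 := by omega
    rw [h7] at h6
    nlinarith
  -- the sum of squares
  have hreal : ∀ g, conj (Λ g) = Λ g := fun g => by
    simp only [Λ, map_div₀, map_sub, map_mul, map_natCast, map_ofNat]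
  have hnorm : ∀ θ : G → ℂ, Cfsg.IsCharacter G θ → ∀ m : Cfsg.IrrCharacter G → ℕ,
      (∀ ψ : Cfsg.IrrCharacter G, Cfsg.classInner θ (ψ : G → ℂ) = m ψ) →
      ∑ g : G, θ g * Λ g = Nat.card G * ((∑ ψ, m ψ * l ψ : ℕ) : ℂ) := by
    intro θ hθ m hm
    refine sum_of_inner_eq hreal ?_
    rw [classInner_eq_sum (isClassFunction_of_isCharacter hθ), Nat.cast_sum]
    refine Finset.sum_congr rfl fun ψ _ => ?_
    rw [hm, hl, map_natCast, Nat.cast_mul]
  have hΛΛ := hnorm Λ hΛc l hl
  have hSΛ := hnorm S hSc s hs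
  set A := ∑ ψ, l ψ * l ψ with hA
  set B := ∑ ψ, s ψ * l ψ with hB
  have hA' : L * L + y * (L * L) ≤ A := by
    have := hsub fun ψ => l ψ * l ψ
    rwa [Finset.sum_congr rfl (s₁ := Y) (g := fun _ => L * L) (fun ψ hψ => by rw [hlY ψ hψ]),
      Finset.sum_const, smul_eq_mul, ← hL] at this
  have hB' : (L + 1) * L + y * ((L - 1) * L) ≤ B := by
    have := hsub fun ψ => s ψ * l ψ
    rwa [Finset.sum_congr rfl (s₁ := Y) (g := fun _ => (L - 1) * L) (fun ψ hψ => by
      rw [hlY ψ hψ, show s ψ = L - 1 by have := hsY ψ hψ; omega]), Finset.sum_const, smul_eq_mul,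
      ← hL, hsχ] at this
  have hL1 : 1 ≤ L := by
    obtain ⟨ψ, hψ⟩ : Y.Nonempty := Finset.card_pos.1 (by omega)
    have := hsY ψ hψ
    omega
  have hP : ∀ g : G, ((fx Ω g * (fx Ω g - 1) : ℕ) : ℂ) * ((fx Ω g * (fx Ω g - 1) : ℕ) : ℂ) =
      2 * (Λ g * Λ g) + 2 * (S g * Λ g) - 2 * (Λ g * (fx Ω g : ℂ)) := by
    intro g
    have hcast : ((fx Ω g * (fx Ω g - 1) : ℕ) : ℂ) = (fx Ω g : ℂ) * fx Ω g - fx Ω g := by
      rcases Nat.eq_zero_or_pos (fx Ω g) with h0 | h0
      · rw [h0]; simp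
      · rw [Nat.cast_mul, Nat.cast_sub h0]; push_cast; ring
    have hz : ((fx Ω g : ℂ) * fx Ω g - fx Ω g) * (sw Ω g : ℂ) = 0 := by
      rcases eq_or_ne (sw Ω g) 0 with h0 | h0
      · rw [h0]; simp
      · rw [T.fx_of_sw h0]; simp
    rw [hcast]
    simp only [Λ, S, hsq]
    linear_combination hz
  have htotal : ((∑ g : G, fx Ω g * (fx Ω g - 1) * (fx Ω g * (fx Ω g - 1)) : ℕ) : ℂ) =
      (Nat.card G : ℂ) * (2 * (A : ℂ) + 2 * (B : ℂ) - 2 * (L : ℂ)) := by
    rw [Nat.cast_sum, Finset.sum_congr rfl fun g _ => by rw [Nat.cast_mul, hP g],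
      Finset.sum_sub_distrib, Finset.sum_add_distrib, ← Finset.mul_sum, ← Finset.mul_sum,
      ← Finset.mul_sum, hΛΛ, hSΛ, hΛπ, hM]
    push_cast
    ring
  rw [T.sum_pairs hab (fun g => fx Ω g * (fx Ω g - 1)) fun g k => by simp only [fx_conj],
    ← T.total hab] at htotal
  set W := ∑ d : pairStab G a b, fx Ω (d : G) * (fx Ω (d : G) - 1) with hW
  set n := Nat.card (pairStab G a b)
  have hWeq : W + n * (2 * L) = n * (2 * A + 2 * B) := by
    have h2 : ((W + n * (2 * L) : ℕ) : ℂ) = ((n * (2 * A + 2 * B) : ℕ) : ℂ) := by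
      have h0 : ((3 * p : ℕ) : ℂ) * ((3 * p - 1 : ℕ) : ℂ) ≠ 0 :=
        mul_ne_zero (Nat.cast_ne_zero.2 (by omega)) (Nat.cast_ne_zero.2 (by omega))
      refine mul_left_cancel₀ h0 ?_
      simp only [Nat.cast_mul, Nat.cast_add, Nat.cast_ofNat] at htotal ⊢
      linear_combination htotal
    exact_mod_cast h2
  interval_cases L
  · left
    refine ⟨hM, ?_⟩
    have : n * (p + 3 + 2) ≤ W + n * (2 * 1) := by
      rw [hWeq]; exact Nat.mul_le_mul_left n (by omega)
    rw [Nat.mul_add n (p + 3) 2] at this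
    omega
  · right
    refine ⟨hM, ?_⟩
    have : n * (6 * p + 10 + 4) ≤ W + n * (2 * 2) := by
      rw [hWeq]; exact Nat.mul_le_mul_left n (by omega)
    rw [Nat.mul_add n (6 * p + 10) 4] at this
    omega

end

end CfsgLib.DegreeThreeP
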