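import Cfsg.Agent.DegreeThreeP.TwoTrans.Basic

/-!
# Degree `3 p`, case `1 + χ`, `p ≡ 3` modulo four: the sum over triples

`∑ π (π - 1)` over a two-point stabilizer, by the orbits of the three-point stabilizers.
-/

set_option autoImplicit false
set_option linter.unusedSectionVars false
set_option linter.style.haveILetI false

namespace CfsgLib.DegreeThreeP

open MulAction

universe u v

variable {p c : ℕ} {G : Type u} [Group G] [Fintype G] {Ω : Type v} [Fintype Ω] [MulAction G Ω]

open scoped Classical in
/-- The points other than `a` and `b`. -/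
noncomputable def others (a b : Ω) : Finset Ω := (Finset.univ.erase a).erase b

theorem mem_others {a b x : Ω} : x ∈ others a b ↔ x ≠ b ∧ x ≠ a := by
  classical
  simp [others]

theorem others_inv {a b : Ω} {g : G} (hg : g ∈ pairStab G a b) {x : Ω} (hx : x ∈ others a b) :
    g • x ∈ others a b := by
  obtain ⟨h1, h2⟩ := mem_pairStab.1 hg
  rw [mem_others] at hx ⊢
  exact ⟨fun e => hx.1 (MulAction.injective g (e.trans h2.symm)),
    fun e => hx.2 (MulAction.injective g (e.trans h1.symm))⟩

theorem card_others (T : TT p c G Ω) {a b : Ω} (hab : a ≠ b) :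
    (others a b).card = 3 * p - 2 := by
  classical
  rw [others, Finset.card_erase_of_mem (by simp [hab.symm]),
    Finset.card_erase_of_mem (Finset.mem_univ a), Finset.card_univ, T.card_space]
  omega

theorem orb_fixed {H : Subgroup G} {x : Ω} (hx : ∀ g ∈ H, g • x = x) : orb H x = {x} := by
  refine Finset.eq_singleton_iff_unique_mem.2 ⟨orb_self H x, fun y hy => ?_⟩
  obtain ⟨g, hg, rfl⟩ := mem_orb.1 hy
  exact hx g hg

theorem orb_subset_others {a b x : Ω} (hx : x ∈ others a b) :
    orb (pairStab G a b) x ⊆ others a b := by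
  intro y hy
  obtain ⟨g, hg, rfl⟩ := mem_orb.1 hy
  exact others_inv hg hx

/-- The orbits on all points. -/
theorem card_orbs_others {a b : Ω} (hab : a ≠ b) :
    (orbs (pairStab G a b) (Finset.univ : Finset Ω)).card =
      (orbs (pairStab G a b) (others a b)).card + 2 := by
  classical
  have ha : orb (pairStab G a b) a = {a} := orb_fixed fun g hg => (mem_pairStab.1 hg).1
  have hb : orb (pairStab G a b) b = {b} := orb_fixed fun g hg => (mem_pairStab.1 hg).2
  have he : orbs (pairStab G a b) (Finset.univ : Finset Ω) =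
      insert {a} (insert {b} (orbs (pairStab G a b) (others a b))) := by
    ext O
    simp only [orbs, Finset.mem_image, Finset.mem_univ, true_and, Finset.mem_insert]
    constructor
    · rintro ⟨x, rfl⟩
      by_cases hxa : x = a
      · left; rw [hxa, ha]
      by_cases hxb : x = b
      · right; left; rw [hxb, hb]
      · exact Or.inr (Or.inr ⟨x, mem_others.2 ⟨hxb, hxa⟩, rfl⟩)
    · rintro (rfl | rfl | ⟨x, -, rfl⟩)
      · exact ⟨a, ha⟩
      · exact ⟨b, hb⟩
      · exact ⟨x, rfl⟩
  have hnot : ∀ y, (y = a ∨ y = b) → ({y} : Finset Ω) ∉ orbs (pairStab G a b) (others a b) := by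
    intro y hy hm
    obtain ⟨x, hx, he'⟩ := Finset.mem_image.1 hm
    have hxy : x = y := Finset.mem_singleton.1 (he' ▸ orb_self _ x)
    obtain ⟨h1, h2⟩ := mem_others.1 hx
    rcases hy with rfl | rfl
    · exact h2 hxy
    · exact h1 hxy
  rw [he, Finset.card_insert_of_notMem, Finset.card_insert_of_notMem (hnot b (Or.inr rfl))]
  rw [Finset.mem_insert, Finset.singleton_inj]
  exact fun e => e.elim hab (hnot a (Or.inl rfl))

theorem tri_eq_inf (a b x : Ω) : tri G a b x = pairStab G a b ⊓ stabilizer G x := rfl

theorem tri_le (a b x : Ω) : tri G a b x ≤ pairStab G a b := inf_le_left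

theorem card_orb_tri (a b x : Ω) :
    (orb (pairStab G a b) x).card * Nat.card (tri G a b x) = Nat.card (pairStab G a b) :=
  card_orb_mul _ _

/-- The sum over the triples. -/
theorem sum_split (T : TT p c G Ω) {a b : Ω} (hab : a ≠ b) [Fintype (pairStab G a b)] :
    ∑ d : pairStab G a b, fx Ω (d : G) * (fx Ω (d : G) - 1) =
      (∑ x ∈ others a b, Nat.card (tri G a b x) * (orbs (tri G a b x) (Finset.univ : Finset Ω)).card) +
        (orbs (pairStab G a b) (Finset.univ : Finset Ω)).card * Nat.card (pairStab G a b) := by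
  classical
  rw [← sum_fix (pairStab G a b)]
  have hd : ∀ d : pairStab G a b, fx Ω (d : G) * (fx Ω (d : G) - 1) =
      (∑ x ∈ others a b, if (d : G) • x = x then fx Ω (d : G) else 0) + fx Ω (d : G) := by
    intro d
    obtain ⟨h1, h2⟩ := mem_pairStab.1 d.2
    have he : (others a b).filter (fun x => (d : G) • x = x) =
        ((fixF Ω (d : G)).erase a).erase b := by
      ext x
      simp only [Finset.mem_filter, mem_others, Finset.mem_erase, mem_fixF]
      tauto
    rw [← Finset.sum_filter, he, Finset.sum_const, smul_eq_mul,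
      Finset.card_erase_of_mem (Finset.mem_erase.2 ⟨hab.symm, mem_fixF.2 h2⟩),
      Finset.card_erase_of_mem (mem_fixF.2 h1), card_fixF]
    have h3 : 2 ≤ fx Ω (d : G) := by
      rw [← card_fixF, ← Finset.card_pair hab]
      refine Finset.card_le_card fun x hx => ?_
      simp only [Finset.mem_insert, Finset.mem_singleton] at hx
      rcases hx with rfl | rfl
      · exact mem_fixF.2 h1
      · exact mem_fixF.2 h2
    obtain ⟨k, hk⟩ : ∃ k, fx Ω (d : G) = k + 2 := ⟨fx Ω (d : G) - 2, by omega⟩
    rw [hk, show k + 2 - 1 - 1 = k by omega, show k + 2 - 1 = k + 1 by omega]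
    ring
  rw [Finset.sum_congr rfl fun d _ => hd d, Finset.sum_add_distrib, Finset.sum_comm]
  congr 1
  refine Finset.sum_congr rfl fun x _ => ?_
  haveI : Fintype (tri G a b x) := Fintype.ofFinite _
  rw [mul_comm, ← sum_fix (tri G a b x), ← Finset.sum_filter]
  refine (Finset.sum_bij' (fun d _ => (⟨d.1, d.2.1⟩ : pairStab G a b))
    (fun d hd' => ⟨d.1, d.2, (Finset.mem_filter.1 hd').2⟩) ?_ ?_ ?_ ?_ ?_).symm
  · intro d _
    exact Finset.mem_filter.2 ⟨Finset.mem_univ _, d.2.2⟩
  · exact fun _ _ => Finset.mem_univ _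
  · exact fun _ _ => rfl
  · exact fun _ _ => rfl
  · exact fun _ _ => rfl

theorem sum_tri (a b : Ω) :
    ∑ x ∈ others a b, Nat.card (tri G a b x) =
      (orbs (pairStab G a b) (others a b)).card * Nat.card (pairStab G a b) :=
  sum_card_stab _ _ fun _ hg _ hx => others_inv hg hx

end CfsgLib.DegreeThreeP
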